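import Cfsg.Agent.Omega.KL.TwoS.Fr
import Cfsg.Agent.Omega.TC.No

/-!
# EX for both sides (helper23 #22505 (II)): the exact group for THEOREM KL*

`O = O₂(D)`; `Mx O A` : `A` elementary abelian of maximal order in `O`.

* `Fr.no_H`, `Fr.no_N` : (NO); `Fr.mx` : `A` is exact on `N_i`, `C_A(N_i) N_i` is maximal in `O` and contained in `Q_i`;
* `Fr.ex_U` : `B = C_A(U_i)` : `B ≤ O₂(C_G(V i) T)`, `|B : C_B(N_i)| = |N_i : C_{N_i}(B)|`;
* `Fail i` : `C_A(U_i) = C_A(N_i)` for all maximal `A ≤ Q_{i+1}`; `Fr.fail_*` : (a) of #22505;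
* `Out` : the output; **`Fr.ex`** : there is an `Out`, or for both `i` : not `Fail i`, `V i ≰ N_i`, `J(O)` moves `V i`.
-/

set_option autoImplicit false
set_option linter.unusedSectionVars false

namespace Cfsg.Agent.Omega.KL.TwoS

open Subgroup Cfsg Cfsg.Agent.Omega.MinPar
open Cfsg.Agent.ZN (o2 zc)
open Cfsg.Agent.Omega.OM.KTwo (CC QQ ne_add_one eq_add_one add_one_add_one le_normalizer_V le_V exists_mul_of_mem_sup)
open Cfsg.Agent.MinSimple.MinParabolic (IsMinPar)
open Cfsg.Agent.Omega.NoFF.Basic (conj_conj mem_conj conj_le_iff comm_symm comm_mono Z_le_V V_le)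
open Cfsg.Agent.Omega.NOThreeL.Pair (conj_eq_of_mem conj_le_normalizer)
open Cfsg.Agent.Omega.NoFF.ThmJFam (card_sup_inf card_conj conj_cent conj_inf)
open Cfsg.Agent.ZN.ChoiceSit (Syl exists_syl syl_conj o2_le_syl)
open Cfsg.Agent.MinSimple.VModule (mem_zc zc_le normalizer_le_normalizer_zc le_o2
  o2_isPGroup o2_le zc_le_centralizer le_centralizer_zc le_normalizer_o2)
open Cfsg.Agent.Omega.TC (NH mem_NH le_normalizer_NH NH_le kgroup_mono)
open Cfsg.Agent.Omega.TC.LemZ (card_eq le_norm_of norm_cent norm_inf)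
open scoped Pointwise

universe u

variable {G : Type u} [Group G]

theorem relIndex_pos [Finite G] (A B : Subgroup G) : 0 < A.relIndex B := Nat.pos_of_ne_zero (OM.PG.Int.rix_ne A B)

/-- monotonicity -/
theorem relIndex_mono [Finite G] {A B C : Subgroup G} (h : B ≤ C) : A.relIndex B ≤ A.relIndex C :=
  relIndex_le_of_le_right h (OM.PG.Int.rix_ne A C)

theorem relIndex_anti [Finite G] {A A' B : Subgroup G} (h : A ≤ A') : A'.relIndex B ≤ A.relIndex B :=
  relIndex_le_of_le_left h (OM.PG.Int.rix_ne A B)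

/-- `|A : C_A(N)| = |A : C_A(U)| |C_A(U) : C_A(N)|` for `C(N) ≤ C(U)` -/
theorem relIndex_split [Finite G] {A X Y : Subgroup G} (h : X ≤ Y) :
    X.relIndex A = X.relIndex (A ⊓ Y) * Y.relIndex A := by
  have h1 := relIndex_mul_relIndex (A ⊓ X) (A ⊓ Y) A (inf_le_inf_left _ h) inf_le_left
  rw [inf_relIndex_left, inf_relIndex_left] at h1
  rw [← h1]
  congr 1
  have e : A ⊓ X = X ⊓ (A ⊓ Y) := by
    apply le_antisymm
    · exact le_inf inf_le_right (le_inf inf_le_left (inf_le_right.trans h))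
    · exact le_inf (inf_le_right.trans inf_le_left) inf_le_left
  rw [e, inf_relIndex_right]

namespace Fr

variable [Finite G] {T : Subgroup G} {V : Fin 2 → Subgroup G} {v : Fin 2 → G} (D : Fr T V v)

include D

/-- **(NO)** for `H` on `⟨v (i+1) ^ H⟩` -/
theorem no_H (hML : ML.Final.MLK.{u, u}) {i : Fin 2} {H A : Subgroup G} (hK : IsKGroup (CC v i)) (hT : T ≤ H)
    (hH : H ≤ CC v i) (hA : A ≤ o2 (centralizer (zc T : Set G))) (hA2 : ∀ a ∈ A, a ^ 2 = 1) :
    (centralizer (NH v i H : Set G)).relIndex A ≤ (centralizer (A : Set G)).relIndex (NH v i H) := by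
  have hAH : A ≤ H := (hA.trans D.O_le_T).trans hT
  have hWN : NH v i H ≤ NN v i := NH_le (mem_NH v i _) (hH.trans (le_normalizer_NH v i _))
  have hWc : NH v i H ≤ centralizer (NH v i H : Set G) := comm_mono (D.N_comm i) hWN hWN
  have hst : ∀ g ∈ H, g * v (i + 1) * g⁻¹ * (v (i + 1))⁻¹ ∈ (⊥ : Subgroup G) → g ∈ centralizer (zc T : Set G) := by
    intro g hg h
    apply D.mem_D (hH hg)
    rw [mem_bot, mul_inv_eq_one] at h
    rw [mem_centralizer_singleton_iff]
    calc g * v (i + 1) = (g * v (i + 1) * g⁻¹) * g := by group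
      _ = v (i + 1) * g := by rw [h]
  have hmain : (A ⊓ centralizer (NH v i H : Set G)).relIndex A ≤
      (NH v i H ⊓ centralizer (A : Set G)).relIndex (NH v i H) := by
    refine hML.grp (C := H) (W := NH v i H) (Y := ⊥) (T := T) (Q := o2 (centralizer (zc T : Set G)) ⊓ H) (A := A)
      (w := v (i + 1)) (kgroup_mono hK hH) ?_ (KA := A ⊓ centralizer (NH v i H : Set G))
      (CW := NH v i H ⊓ centralizer (A : Set G)) ?_ ?_
    · refine ⟨le_normalizer_NH v i H, ?_, bot_le, ?_, ?_, mem_NH v i H, ?_, hT, D.T_isPGroup, ?_, ?_, inf_le_right,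
        (o2_isPGroup _).to_le inf_le_left, ?_, ?_, le_inf hA hAH, ?_⟩
      · exact fun h _ => by
          rw [mem_normalizer_iff]
          intro x
          rw [mem_bot, mem_bot, conj_eq_one_iff]
      · exact fun h _ => by
          rw [mem_normalizer_iff]
          intro x
          rw [mem_bot, mem_bot, conj_eq_one_iff]
      · intro x hx
        rw [← pow_two, D.N_sq i x (hWN hx)]
        exact one_mem _
      · intro U hU _ hHU
        exact NH_le hU hHU
      · have hS : Syl T H := ⟨hT, D.T_isPGroup, fun R hR hR2 hTR => (D.syl i).2.2 R (hR.trans hH) hR2 hTR⟩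
        exact Cfsg.Agent.ZN.ChoiceSit.syl_not_dvd hS
      · intro t ht
        rw [D.cen (i + 1) ht, mul_inv_cancel]
        exact one_mem _
      · intro q hq
        have h1 : q ∈ CC v (i + 1) := D.cent_zc_le (i + 1) (o2_le _ hq.1)
        have h2 : q * v (i + 1) = v (i + 1) * q := mem_centralizer_singleton_iff.1 h1
        rw [h2, mul_inv_cancel_right, mul_inv_cancel]
        exact one_mem _
      · intro g hg hgY q hq
        have h1 := hst g hg hgY
        exact mem_inf.2 ⟨(mem_normalizer_iff.1 (le_normalizer_o2 _ h1) q).1 hq.1,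
          H.mul_mem (H.mul_mem hg hq.2) (H.inv_mem hg)⟩
      · intro a ha x _
        have h1 : a * a = 1 := by rw [← pow_two]; exact hA2 a ha
        have e : a * (a * x * a⁻¹) * a⁻¹ * x⁻¹ = (a * a) * x * (a * a)⁻¹ * x⁻¹ := by group
        rw [e, h1]
        simp
    · intro a
      constructor
      · rintro ⟨h1, h2⟩
        refine ⟨h1, fun x hx => ?_⟩
        have h3 := mem_centralizer_iff.1 h2 x hx
        rw [← h3, mul_inv_cancel_right, mul_inv_cancel]
        exact one_mem _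
      · rintro ⟨h1, h2⟩
        refine ⟨h1, mem_centralizer_iff.2 fun x hx => ?_⟩
        have h3 := h2 x hx
        rw [mem_bot, mul_inv_eq_one] at h3
        calc x * a = (a * x * a⁻¹) * a := by rw [h3]
          _ = a * x := by group
    · intro x
      constructor
      · rintro ⟨h1, h2⟩
        refine ⟨h1, fun a ha => ?_⟩
        rw [mem_centralizer_iff.1 h2 a ha, mul_inv_cancel_right, mul_inv_cancel]
        exact one_mem _
      · rintro ⟨h1, h2⟩
        refine ⟨h1, mem_centralizer_iff.2 fun a ha => ?_⟩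
        have h3 := h2 a ha
        rw [mem_bot, mul_inv_eq_one] at h3
        calc a * x = (a * x * a⁻¹) * a := by group
          _ = x * a := by rw [h3]
  rwa [inf_relIndex_left, inf_relIndex_left] at hmain

theorem no_N (hML : ML.Final.MLK.{u, u}) {i : Fin 2} {A : Subgroup G} (hK : IsKGroup (CC v i))
    (hA : A ≤ o2 (centralizer (zc T : Set G))) (hA2 : ∀ a ∈ A, a ^ 2 = 1) :
    (centralizer (NN v i : Set G)).relIndex A ≤ (centralizer (A : Set G)).relIndex (NN v i) :=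
  D.no_H hML hK (D.T_le_C i) le_rfl hA hA2

/-- `A` maximal in `O` : exact on `N_i`, `C_A(N_i) N_i` is maximal and `≤ Q_i` -/
theorem mx (hML : ML.Final.MLK.{u, u}) {i : Fin 2} {A : Subgroup G} (hK : IsKGroup (CC v i))
    (hA : Mx (o2 (centralizer (zc T : Set G))) A) :
    (centralizer (NN v i : Set G)).relIndex A = (centralizer (A : Set G)).relIndex (NN v i) ∧
    Mx (o2 (centralizer (zc T : Set G))) (A ⊓ centralizer (NN v i : Set G) ⊔ NN v i) ∧
    A ⊓ centralizer (NN v i : Set G) ⊔ NN v i ≤ QQ v i := by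
  have h1 := D.no_N hML hK hA.le hA.sq
  refine ⟨le_antisymm h1 (hA.thom (D.N_le_O i) (D.N_sq i)), hA.sup (D.N_le_O i) (D.N_sq i) h1, sup_le ?_ (D.N_le_Q i)⟩
  exact (inf_le_inf_right _ hA.le).trans (D.O_inf_le i)

/-- `B = C_A(U_i)` -/
theorem ex_U (hML : ML.Final.MLK.{u, u}) {i : Fin 2} {A : Subgroup G} (hK : IsKGroup (CC v i))
    (hA : Mx (o2 (centralizer (zc T : Set G))) A) :
    A ⊓ centralizer (UU V v i : Set G) ≤ o2 (HH T V i) ∧
    (centralizer (NN v i : Set G)).relIndex (A ⊓ centralizer (UU V v i : Set G)) =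
      (centralizer ((A ⊓ centralizer (UU V v i : Set G) : Subgroup G) : Set G)).relIndex (NN v i) ∧
    Mx (o2 (centralizer (zc T : Set G))) (A ⊓ centralizer (UU V v i : Set G) ⊔ UU V v i) := by
  set B : Subgroup G := A ⊓ centralizer (UU V v i : Set G) with hB
  have hUN := D.U_le_N i
  have hCN : centralizer (NN v i : Set G) ≤ centralizer (UU V v i : Set G) := centralizer_le hUN
  have hUno := D.no_H hML hK (D.T_le_H i) (D.H_le_C i) hA.le hA.sq
  rw [D.NH_H] at hUno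
  refine ⟨?_, ?_, hA.sup (hUN.trans (D.N_le_O i)) (D.U_sq i) hUno⟩
  · have h1 := GenTool.o2_inf_le (L := HH T V i) (N := HH T V i ⊓ centralizer (UU V v i : Set G))
      (R := centralizer (zc T : Set G)) inf_le_left
      (fun g hg x hx => ⟨(HH T V i).mul_mem ((HH T V i).mul_mem hg hx.1) ((HH T V i).inv_mem hg),
        (mem_normalizer_iff.1 (norm_cent (D.H_le_norm_U i) hg) x).1 hx.2⟩)
      (fun x hx => D.mem_D (D.H_le_C i hx.1)
        (centralizer_le (Set.singleton_subset_iff.2 (mem_NH v i (centralizer (V i : Set G)))) hx.2))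
    refine le_trans ?_ h1
    exact le_inf (inf_le_left.trans hA.le) (le_inf ((inf_le_left.trans (hA.le.trans D.O_le_T)).trans (D.T_le_H i))
      inf_le_right)
  · -- counting
    have hA1 := (D.mx hML hK hA).1
    have s1 := relIndex_split (A := A) hCN
    rw [← hB] at s1
    have hCC : centralizer (A : Set G) ≤ centralizer (B : Set G) := centralizer_le inf_le_left
    have s2 := relIndex_split (A := NN v i) hCC
    have hUB : UU V v i ≤ NN v i ⊓ centralizer (B : Set G) := le_inf hUN (comm_symm inf_le_right)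
    have h3 : (centralizer (UU V v i : Set G)).relIndex A ≤
        (centralizer (A : Set G)).relIndex (NN v i ⊓ centralizer (B : Set G)) := hUno.trans (relIndex_mono hUB)
    have h4 := D.no_N hML hK (A := B) (inf_le_left.trans hA.le) (fun b hb => hA.sq b hb.1)
    refine le_antisymm h4 ?_
    by_contra hc
    push Not at hc
    rw [hA1, s2] at s1
    have p1 := relIndex_pos (centralizer (UU V v i : Set G)) A
    have h5 : (centralizer (NN v i : Set G)).relIndex B * (centralizer (UU V v i : Set G)).relIndex A <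
        (centralizer (A : Set G)).relIndex (NN v i ⊓ centralizer (B : Set G)) * (centralizer (B : Set G)).relIndex (NN v i) := by
      calc (centralizer (NN v i : Set G)).relIndex B * (centralizer (UU V v i : Set G)).relIndex A
          < (centralizer (B : Set G)).relIndex (NN v i) * (centralizer (UU V v i : Set G)).relIndex A :=
            Nat.mul_lt_mul_of_pos_right hc p1
        _ ≤ (centralizer (B : Set G)).relIndex (NN v i) *
            (centralizer (A : Set G)).relIndex (NN v i ⊓ centralizer (B : Set G)) := Nat.mul_le_mul_left _ h3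
        _ = _ := Nat.mul_comm _ _
    exact absurd s1.symm h5.ne

end Fr

/-- `Fail i` : `C_A(U_i) = C_A(N_i)` for all maximal `A ≤ Q_{i+1}` -/
def Fail (T : Subgroup G) (V : Fin 2 → Subgroup G) (v : Fin 2 → G) (i : Fin 2) : Prop :=
  ∀ A : Subgroup G, Mx (o2 (centralizer (zc T : Set G))) A → A ≤ QQ v (i + 1) →
    A ⊓ centralizer (UU V v i : Set G) ≤ centralizer (NN v i : Set G)

/-- `{C_A(N_i) N_i : A ≤ Q_{i+1} maximal}` -/
def SS (T : Subgroup G) (v : Fin 2 → G) (i : Fin 2) : Set (Subgroup G) :=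
  {X | ∃ A : Subgroup G, Mx (o2 (centralizer (zc T : Set G))) A ∧ A ≤ QQ v (i + 1) ∧
    X = A ⊓ centralizer (NN v i : Set G) ⊔ NN v i}

/-- `⟨N_i ^ C_{i+1}⟩` -/
abbrev MM (v : Fin 2 → G) (i : Fin 2) : Subgroup G := NoFF.Basic.V (NN v i) (CC v (i + 1))

namespace Fr

variable [Finite G] {T : Subgroup G} {V : Fin 2 → Subgroup G} {v : Fin 2 → G} (D : Fr T V v)

include D

theorem fail_eq (hML : ML.Final.MLK.{u, u}) {i : Fin 2} (hK : IsKGroup (CC v i)) (hF : Fail T V v i)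
    {A : Subgroup G} (hA : Mx (o2 (centralizer (zc T : Set G))) A) (hAQ : A ≤ QQ v (i + 1)) :
    A ⊓ centralizer (NN v i : Set G) ⊔ NN v i = A ⊓ centralizer (UU V v i : Set G) ⊔ UU V v i := by
  have h1 := (D.mx hML hK hA).2.1
  have h2 := (D.ex_U hML hK hA).2.2
  have h3 : A ⊓ centralizer (UU V v i : Set G) ⊔ UU V v i ≤ A ⊓ centralizer (NN v i : Set G) ⊔ NN v i :=
    sup_le_sup (le_inf inf_le_left (hF A hA hAQ)) (D.U_le_N i)
  exact (Subgroup.eq_of_le_of_card_ge h3 (h2.max _ h1.le h1.sq)).symm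

/-- one step of the invariance of `SS i` -/
theorem SS_step (hML : ML.Final.MLK.{u, u}) {i : Fin 2} (hK : IsKGroup (CC v i)) (hF : Fail T V v i) {g : G}
    (hg : g ∈ CC v (i + 1)) (hg2 : g ∈ CC v i ∨ g ∈ normalizer (V i : Set G)) {X : Subgroup G} (hX : X ∈ SS T v i) :
    MulAut.conj g • X ∈ SS T v i := by
  obtain ⟨A, hA, hAQ, rfl⟩ := hX
  have e1 : MulAut.conj g • QQ v (i + 1) = QQ v (i + 1) := conj_eq_of_mem (le_normalizer_o2 _ hg)
  have hAg : MulAut.conj g • A ≤ QQ v (i + 1) := by rw [← e1]; exact conj_le_iff.2 hAQ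
  have hMg := hA.conj (g := g) (hAg.trans (D.Q_le_O _))
  refine ⟨MulAut.conj g • A, hMg, hAg, ?_⟩
  rcases hg2 with h | h
  · have e2 : MulAut.conj g • NN v i = NN v i := conj_eq_of_mem (le_normalizer_NH v i _ h)
    rw [Subgroup.smul_sup, conj_inf, conj_cent, e2]
  · have e2 : MulAut.conj g • UU V v i = UU V v i := conj_eq_of_mem (D.norm_U i ⟨h, hg⟩)
    rw [D.fail_eq hML hK hF hA hAQ, D.fail_eq hML hK hF hMg hAg, Subgroup.smul_sup, conj_inf, conj_cent, e2]

/-- **`SS i` is `C_{i+1}`-invariant** -/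
theorem SS_inv (hML : ML.Final.MLK.{u, u}) {i : Fin 2} (hK : IsKGroup (CC v i)) (hF : Fail T V v i) {g : G}
    (hg : g ∈ CC v (i + 1)) {X : Subgroup G} (hX : X ∈ SS T v i) : MulAut.conj g • X ∈ SS T v i := by
  let K : Subgroup G :=
    { carrier := {g | ∀ X, X ∈ SS T v i ↔ MulAut.conj g • X ∈ SS T v i}
      one_mem' := fun X => by rw [map_one, one_smul]
      mul_mem' := by
        intro a b ha hb X
        rw [hb X, ha, conj_conj]
      inv_mem' := by
        intro a ha X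
        have h := ha (MulAut.conj a⁻¹ • X)
        rw [conj_conj, mul_inv_cancel, map_one, one_smul] at h
        exact h.symm }
  have key : ∀ R : Subgroup G, R ≤ CC v (i + 1) → (∀ r ∈ R, r ∈ CC v i ∨ r ∈ normalizer (V i : Set G)) → R ≤ K := by
    intro R hR hR2 r hr X
    refine ⟨D.SS_step hML hK hF (hR hr) (hR2 r hr), fun h => ?_⟩
    have h1 := D.SS_step hML hK hF (hR (inv_mem hr)) (hR2 _ (inv_mem hr)) h
    rwa [conj_conj, inv_mul_cancel, map_one, one_smul] at h1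
  have h : CC v (i + 1) ≤ K := by
    refine MinSimple.MinParabolic.le_of_forall (D.T_le_C _) ?_ fun R hR hRC => ?_
    · exact key _ inf_le_left fun r hr => Or.inl (D.cent_zc_le i (D.nT (i + 1) hr))
    · by_cases hm : R ≤ CC v i
      · exact key R hRC fun r hr => Or.inl (hm hr)
      · exact key R hRC fun r hr => Or.inr (D.uni i (i + 1) (ne_add_one i) R hR hRC hm i hr)
  exact (h hg X).1 hX

theorem SS_mx (hML : ML.Final.MLK.{u, u}) {i : Fin 2} (hK : IsKGroup (CC v i)) {X : Subgroup G} (hX : X ∈ SS T v i) :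
    Mx (o2 (centralizer (zc T : Set G))) X ∧ X ≤ QQ v i ∧ NN v i ≤ X := by
  obtain ⟨A, hA, -, rfl⟩ := hX
  obtain ⟨-, h1, h2⟩ := D.mx hML hK hA
  exact ⟨h1, h2, le_sup_right⟩

/-- members of `SS i` lie in `Q_{i+1}` -/
theorem SS_le (hML : ML.Final.MLK.{u, u}) {i : Fin 2} (hK : IsKGroup (CC v i)) (hF : Fail T V v i)
    {X : Subgroup G} (hX : X ∈ SS T v i) : X ≤ QQ v (i + 1) := by
  have h1 : NoFF.Basic.V X (CC v (i + 1)) ≤ o2 (centralizer (zc T : Set G)) :=
    V_le fun c hc => (D.SS_mx hML hK (D.SS_inv hML hK hF hc hX)).1.le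
  have h2 : NoFF.Basic.V X (CC v (i + 1)) ≤ QQ v (i + 1) :=
    le_o2 ((h1.trans D.O_le_T).trans (D.T_le_C _)) ((o2_isPGroup _).to_le h1) (le_normalizer_V _ _)
  exact (le_V _ _).trans h2

/-- `⟨N_i ^ C_{i+1}⟩ ≤ X` -/
theorem MM_le (hML : ML.Final.MLK.{u, u}) {i : Fin 2} (hK : IsKGroup (CC v i)) (hF : Fail T V v i)
    {X : Subgroup G} (hX : X ∈ SS T v i) : MM v i ≤ X := by
  refine V_le fun c hc => ?_
  have h1 := (D.SS_mx hML hK (D.SS_inv hML hK hF (inv_mem hc) hX)).2.2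
  have h2 : MulAut.conj c • NN v i ≤ MulAut.conj c • (MulAut.conj c⁻¹ • X) := conj_le_iff.2 h1
  rwa [conj_conj, mul_inv_cancel, map_one, one_smul] at h2

theorem SS_nonempty (hML : ML.Final.MLK.{u, u}) (i : Fin 2) (hK : ∀ i, IsKGroup (CC v i)) : ∃ X, X ∈ SS T v i := by
  obtain ⟨A, hA⟩ := Mx.exists_mx (o2 (centralizer (zc T : Set G)))
  obtain ⟨-, h1, h2⟩ := D.mx hML (hK (i + 1)) hA
  exact ⟨_, _, h1, h2, rfl⟩

/-- `[N_i, N_{i+1}] = 1` -/
theorem fail_comm (hML : ML.Final.MLK.{u, u}) {i : Fin 2} (hK : ∀ i, IsKGroup (CC v i)) (hF : Fail T V v i) :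
    NN v i ≤ centralizer (NN v (i + 1) : Set G) := by
  obtain ⟨X, hX⟩ := D.SS_nonempty hML i hK
  exact ((D.SS_mx hML (hK i) hX).2.2.trans (D.SS_le hML (hK i) hF hX)).trans (D.Q_le_cent_N (i + 1))

/-- `A ≤ Q_i` maximal: `C_A(N_{i+1}) N_{i+1} ∈ SS i` -/
theorem mem_SS (hML : ML.Final.MLK.{u, u}) {i : Fin 2} (hK : ∀ i, IsKGroup (CC v i)) (hF : Fail T V v i)
    {A : Subgroup G} (hA : Mx (o2 (centralizer (zc T : Set G))) A) (hAQ : A ≤ QQ v i) :
    A ⊓ centralizer (NN v (i + 1) : Set G) ⊔ NN v (i + 1) ∈ SS T v i := by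
  obtain ⟨-, h1, h2⟩ := D.mx hML (hK (i + 1)) hA
  set A' : Subgroup G := A ⊓ centralizer (NN v (i + 1) : Set G) ⊔ NN v (i + 1) with hA'
  have h3 : A' ≤ centralizer (NN v i : Set G) :=
    sup_le (inf_le_left.trans (hAQ.trans (D.Q_le_cent_N i))) (comm_symm (D.fail_comm hML hK hF))
  have h4 : NN v i ≤ A' := h1.le_of_comm (D.N_le_O i) (D.N_sq i) (comm_symm h3)
  refine ⟨A', h1, h2, ?_⟩
  rw [inf_eq_left.2 h3, sup_eq_left.2 h4]

/-- some maximal `A ≤ Q_i` moves `N_{i+1}` -/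
theorem fail_move (hML : ML.Final.MLK.{u, u}) {i : Fin 2} (hK : ∀ i, IsKGroup (CC v i)) (hF : Fail T V v i) :
    ∃ A : Subgroup G, Mx (o2 (centralizer (zc T : Set G))) A ∧ A ≤ QQ v i ∧ ¬ A ≤ centralizer (NN v (i + 1) : Set G) := by
  by_contra hc
  push Not at hc
  have h1 : ∀ A : Subgroup G, A ∈ SS T v i ↔ Mx (o2 (centralizer (zc T : Set G))) A ∧ A ≤ QQ v i := by
    intro A
    constructor
    · intro h
      obtain ⟨h1, h2, -⟩ := D.SS_mx hML (hK i) h
      exact ⟨h1, h2⟩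
    · rintro ⟨hA, hAQ⟩
      have h2 := D.mem_SS hML hK hF hA hAQ
      have h3 := hc A hA hAQ
      have h4 : NN v (i + 1) ≤ A := hA.le_of_comm (D.N_le_O _) (D.N_sq _) (comm_symm h3)
      rwa [inf_eq_left.2 h3, sup_eq_left.2 h4] at h2
  set J : Subgroup G := ⨆ A : SS T v i, (A : Subgroup G) with hJ
  have hJO : J ≤ o2 (centralizer (zc T : Set G)) := iSup_le fun A => ((h1 A).1 A.2).1.le
  have hinv : ∀ g : G, (∀ X, X ∈ SS T v i → MulAut.conj g • X ∈ SS T v i) → ∀ x ∈ J, g * x * g⁻¹ ∈ J := by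
    intro g hg x hx
    have h2 : J ≤ MulAut.conj g⁻¹ • J := by
      refine iSup_le fun A => ?_
      have h3 : MulAut.conj g • (A : Subgroup G) ≤ J := le_iSup (fun A : SS T v i => (A : Subgroup G)) ⟨_, hg A A.2⟩
      have h4 : MulAut.conj g⁻¹ • (MulAut.conj g • (A : Subgroup G)) ≤ MulAut.conj g⁻¹ • J := conj_le_iff.2 h3
      rwa [conj_conj, inv_mul_cancel, map_one, one_smul] at h4
    have h5 := h2 hx
    rw [mem_conj, inv_inv] at h5
    exact h5
  have hJ1 : J = ⊥ := by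
    refine D.nonloc' (i := i) ((o2_isPGroup _).to_le hJO) (le_norm_of fun g hg => hinv g fun X hX => ?_)
      (le_norm_of fun g hg => hinv g fun X hX => D.SS_inv hML (hK i) hF hg hX)
    obtain ⟨h2, h3⟩ := (h1 X).1 hX
    have e1 : MulAut.conj g • QQ v i = QQ v i := conj_eq_of_mem (le_normalizer_o2 _ hg)
    have h4 : MulAut.conj g • X ≤ QQ v i := by rw [← e1]; exact conj_le_iff.2 h3
    exact (h1 _).2 ⟨h2.conj (h4.trans (D.Q_le_O i)), h4⟩
  obtain ⟨X, hX⟩ := D.SS_nonempty hML i hK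
  have h2 : NN v i ≤ J := (D.SS_mx hML (hK i) hX).2.2.trans (le_iSup (fun A : SS T v i => (A : Subgroup G)) ⟨X, hX⟩)
  have h3 := h2 (mem_NH v i _)
  rw [hJ1, mem_bot] at h3
  exact D.ne _ h3

/-- **`N_i N_{i+1}` is normal in `C_{i+1}`** -/
theorem fail_norm (hML : ML.Final.MLK.{u, u}) {i : Fin 2} (hK : ∀ i, IsKGroup (CC v i)) (hF : Fail T V v i) :
    CC v (i + 1) ≤ normalizer ((NN v i ⊔ NN v (i + 1) : Subgroup G) : Set G) := by
  obtain ⟨A, hA, hAQ, hAm⟩ := D.fail_move hML hK hF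
  have hMA := D.MM_le hML (hK i) hF (D.mem_SS hML hK hF hA hAQ)
  have hCN : CC v (i + 1) ≤ normalizer (NN v (i + 1) : Set G) := le_normalizer_NH v _ _
  have hCM : CC v (i + 1) ≤ normalizer (MM v i : Set G) := le_normalizer_V _ _
  let K : Subgroup G :=
    { carrier := {c | c ∈ CC v (i + 1) ∧ ∀ m ∈ MM v i, c * m * c⁻¹ * m⁻¹ ∈ NN v (i + 1)}
      one_mem' := ⟨one_mem _, fun m _ => by simp⟩
      mul_mem' := by
        rintro a b ⟨ha, ha'⟩ ⟨hb, hb'⟩
        refine ⟨mul_mem ha hb, fun m hm => ?_⟩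
        have e : a * b * m * (a * b)⁻¹ * m⁻¹ = (a * (b * m * b⁻¹ * m⁻¹) * a⁻¹) * (a * m * a⁻¹ * m⁻¹) := by group
        rw [e]
        exact mul_mem ((mem_normalizer_iff.1 (hCN ha) _).1 (hb' m hm)) (ha' m hm)
      inv_mem' := by
        rintro a ⟨ha, ha'⟩
        refine ⟨inv_mem ha, fun m hm => ?_⟩
        have e : a⁻¹ * m * a⁻¹⁻¹ * m⁻¹ = a⁻¹ * (a * m * a⁻¹ * m⁻¹)⁻¹ * a⁻¹⁻¹ := by group
        rw [e]
        exact (mem_normalizer_iff.1 (hCN (inv_mem ha)) _).1 (inv_mem (ha' m hm)) }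
  have hKC : K ≤ CC v (i + 1) := fun c hc => hc.1
  have hKn : CC v (i + 1) ≤ normalizer (K : Set G) := by
    refine le_norm_of fun g hg c hc => ⟨mul_mem (mul_mem hg hc.1) (inv_mem hg), fun m hm => ?_⟩
    have h1 := hc.2 _ ((mem_normalizer_iff.1 (hCM (inv_mem hg)) m).1 hm)
    rw [inv_inv] at h1
    have e : g * c * g⁻¹ * m * (g * c * g⁻¹)⁻¹ * m⁻¹ = g * (c * (g⁻¹ * m * g) * c⁻¹ * (g⁻¹ * m * g)⁻¹) * g⁻¹ := by group
    rw [e]
    exact (mem_normalizer_iff.1 (hCN hg) _).1 h1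
  have hAC : A ≤ CC v (i + 1) := (hA.le.trans D.O_le_T).trans (D.T_le_C _)
  have hAK : A ≤ K := by
    intro a ha
    refine ⟨hAC ha, fun m hm => ?_⟩
    obtain ⟨b, hb, n, hn, rfl⟩ := exists_mul_of_mem_sup
      ((comm_symm (inf_le_right : A ⊓ centralizer (NN v (i + 1) : Set G) ≤ _)).trans (centralizer_le_normalizer _)) (hMA hm)
    have h1 : b * a = a * b := mem_centralizer_iff.1 (hA.comm ha) b hb.1
    have h2 : a * n * a⁻¹ * n⁻¹ ∈ NN v (i + 1) :=
      mul_mem ((mem_normalizer_iff.1 (hCN (hAC ha)) n).1 hn) (inv_mem hn)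
    have h3 : (a * n * a⁻¹ * n⁻¹) * b = b * (a * n * a⁻¹ * n⁻¹) := mem_centralizer_iff.1 hb.2 _ h2
    have e : a * (b * n) * a⁻¹ * (b * n)⁻¹ = (a * b) * (n * a⁻¹ * n⁻¹) * b⁻¹ := by group
    have e2 : (a * b) * (n * a⁻¹ * n⁻¹) * b⁻¹ = a * n * a⁻¹ * n⁻¹ := by
      rw [← h1]
      calc b * a * (n * a⁻¹ * n⁻¹) * b⁻¹ = (b * (a * n * a⁻¹ * n⁻¹)) * b⁻¹ := by group
        _ = a * n * a⁻¹ * n⁻¹ := by rw [← h3]; group
    rw [e, e2]
    exact h2
  have hKm : ¬ K ≤ CC v (i + 1 + 1) := fun h => hAm (hAK.trans (D.cent_N_of_le hKn h))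
  have hgen := D.gen_of hKC hKm
  refine hgen.trans (sup_le ?_ ?_)
  · -- `K` normalises `N_i N_{i+1}`
    have hcomm := D.fail_comm hML hK hF
    refine le_norm_of fun k hk x hx => ?_
    obtain ⟨m, hm, n, hn, rfl⟩ := exists_mul_of_mem_sup ((comm_symm hcomm).trans (centralizer_le_normalizer _)) hx
    have h1 := hk.2 m (le_V _ _ hm)
    have h2 := (mem_normalizer_iff.1 (hCN hk.1) n).1 hn
    have e : k * (m * n) * k⁻¹ = (k * m * k⁻¹ * m⁻¹) * (m * (k * n * k⁻¹)) := by group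
    rw [e]
    exact mul_mem (mem_sup_right h1) (mul_mem (mem_sup_left hm) (mem_sup_right h2))
  · -- `D` normalises `N_i N_{i+1}`
    intro d hd
    have e1 : MulAut.conj d • NN v i = NN v i := conj_eq_of_mem (le_normalizer_NH v _ _ (D.cent_zc_le i hd))
    have e2 : MulAut.conj d • NN v (i + 1) = NN v (i + 1) := conj_eq_of_mem (le_normalizer_NH v _ _ (D.cent_zc_le _ hd))
    rw [mem_normalizer_iff]
    intro x
    have e3 : MulAut.conj d • (NN v i ⊔ NN v (i + 1)) = NN v i ⊔ NN v (i + 1) := by rw [Subgroup.smul_sup, e1, e2]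
    have e4 : d⁻¹ * (d * x * d⁻¹) * d = x := by group
    constructor
    · intro h
      rw [← e3, mem_conj, e4]
      exact h
    · intro h
      rw [← e3, mem_conj, e4] at h
      exact h

/-- (b): not both fail -/
theorem not_both (hML : ML.Final.MLK.{u, u}) {i : Fin 2} (hK : ∀ i, IsKGroup (CC v i)) (hF : Fail T V v i)
    (hF' : Fail T V v (i + 1)) : False := by
  have h1 := D.fail_norm hML hK hF
  have h2 := D.fail_norm hML hK hF'
  rw [add_one_add_one, sup_comm] at h2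
  have h3 : NN v i ⊔ NN v (i + 1) = ⊥ :=
    D.nonloc' (i := i) ((o2_isPGroup _).to_le (sup_le (D.N_le_O i) (D.N_le_O (i + 1)))) h2 h1
  have h4 := (le_sup_left : NN v i ≤ NN v i ⊔ NN v (i + 1)) (mem_NH v i _)
  rw [h3, mem_bot] at h4
  exact D.ne _ h4

end Fr

/-- the output of EX: the input of THEOREM KL* on `X`, on the level of `C_i` -/
structure Out (T : Subgroup G) (V : Fin 2 → Subgroup G) (v : Fin 2 → G) (i : Fin 2) (X B : Subgroup G) : Prop where
  NX : NN v i ≤ X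
  VX : V i ≤ X
  CX : CC v i ≤ normalizer (X : Set G)
  XQ : X ≤ QQ v i
  sqX : ∀ x ∈ X, x ^ 2 = 1
  sqB : ∀ b ∈ B, b ^ 2 = 1
  BO : B ≤ o2 (centralizer (zc T : Set G))
  BH : B ≤ o2 (HH T V i)
  ker : B ⊓ centralizer (NN v i : Set G) ≤ centralizer (X : Set G)
  ex : (centralizer (B : Set G)).relIndex X ≤ (centralizer (NN v i : Set G)).relIndex B
  mv : ¬ B ≤ centralizer (NN v i : Set G)

namespace Fr

variable [Finite G] {T : Subgroup G} {V : Fin 2 → Subgroup G} {v : Fin 2 → G} (D : Fr T V v)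

include D

theorem X_facts (i : Fin 2) : (WW V v i ⊔ NN v i ≤ QQ v i) ∧ (∀ x ∈ WW V v i ⊔ NN v i, x ^ 2 = 1) ∧
    CC v i ≤ normalizer ((WW V v i ⊔ NN v i : Subgroup G) : Set G) ∧ V i ≤ WW V v i ⊔ NN v i := by
  have hc : WW V v i ≤ centralizer (NN v i : Set G) := (D.W_le_Q i).trans (D.Q_le_cent_N i)
  refine ⟨sup_le (D.W_le_Q i) (D.N_le_Q i), sq_sup (D.W_sq i) (D.N_sq i) hc, ?_, (le_V _ _).trans le_sup_left⟩
  refine le_norm_of fun c hcc x hx => ?_
  obtain ⟨w, hw, n, hn, rfl⟩ := exists_mul_of_mem_sup ((comm_symm hc).trans (centralizer_le_normalizer _)) hx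
  have e : c * (w * n) * c⁻¹ = (c * w * c⁻¹) * (c * n * c⁻¹) := by group
  rw [e]
  exact mul_mem (mem_sup_left ((mem_normalizer_iff.1 (le_normalizer_V (V i) (CC v i) hcc) w).1 hw))
    (mem_sup_right ((mem_normalizer_iff.1 (le_normalizer_NH v i (CC v i) hcc) n).1 hn))

/-- the common part of (c) and (e): `A` maximal, `C_A(N_i) N_i` centralises `X = W_i N_i` -/
theorem out_of (hML : ML.Final.MLK.{u, u}) {i : Fin 2} (hK : IsKGroup (CC v i)) {A : Subgroup G}
    (hA : Mx (o2 (centralizer (zc T : Set G))) A)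
    (hc : A ⊓ centralizer (NN v i : Set G) ≤ centralizer ((WW V v i ⊔ NN v i : Subgroup G) : Set G))
    (hm : ¬ A ⊓ centralizer (UU V v i : Set G) ≤ centralizer (NN v i : Set G)) :
    Out T V v i (WW V v i ⊔ NN v i) (A ⊓ centralizer (UU V v i : Set G)) := by
  obtain ⟨h1, h2, h3, h4⟩ := D.X_facts i
  obtain ⟨h5, h6, -⟩ := D.ex_U hML hK hA
  have hXc : WW V v i ⊔ NN v i ≤ centralizer ((WW V v i ⊔ NN v i : Subgroup G) : Set G) := comm_of_sq h2
  have h7 : (centralizer (A : Set G)).relIndex (WW V v i ⊔ NN v i) ≤ (centralizer (A : Set G)).relIndex (NN v i) := by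
    refine (hA.thom (h1.trans (D.Q_le_O i)) h2).trans ?_
    rw [← (D.mx hML hK hA).1]
    have e1 : (A ⊓ centralizer (NN v i : Set G)).relIndex A = (centralizer (NN v i : Set G)).relIndex A :=
      inf_relIndex_left _ _
    rw [← e1]
    exact relIndex_anti hc
  have h8 := sup_of_relIndex_le le_sup_right hXc h7
  have h9 : WW V v i ⊔ NN v i ≤ NN v i ⊔ ((WW V v i ⊔ NN v i) ⊓
      centralizer ((A ⊓ centralizer (UU V v i : Set G) : Subgroup G) : Set G)) :=
    h8.trans (sup_le_sup_left (inf_le_inf_left _ (centralizer_le inf_le_left)) _)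
  refine ⟨le_sup_right, h4, h3, h1, h2, fun b hb => hA.sq b hb.1, inf_le_left.trans hA.le, h5, ?_, ?_, hm⟩
  · exact (inf_le_inf_right _ inf_le_left).trans hc
  · rw [h6]
    exact relIndex_le_of_sup le_sup_right hXc h9

/-- (c) -/
theorem out_c (hML : ML.Final.MLK.{u, u}) {i : Fin 2} (hK : ∀ i, IsKGroup (CC v i)) (hF : Fail T V v i)
    (hF' : ¬ Fail T V v (i + 1)) : ∃ X B : Subgroup G, Out T V v (i + 1) X B := by
  unfold Fail at hF'
  push Not at hF'
  obtain ⟨A, hA, hAQ, hm⟩ := hF'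
  rw [add_one_add_one] at hAQ
  refine ⟨_, _, D.out_of hML (hK (i + 1)) hA ?_ hm⟩
  have h1 := D.MM_le hML (hK i) hF (D.mem_SS hML hK hF hA hAQ)
  have h2 : WW V v (i + 1) ⊔ NN v (i + 1) ≤ A ⊓ centralizer (NN v (i + 1) : Set G) ⊔ NN v (i + 1) := by
    refine sup_le (le_trans ?_ h1) le_sup_right
    refine V_le fun c hc => ?_
    exact (conj_le_iff.2 (D.V_le_N i)).trans (Z_le_V hc)
  refine comm_symm (h2.trans ?_)
  refine sup_le (comm_mono hA.comm inf_le_left inf_le_left) (comm_symm inf_le_right)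

/-- (e) -/
theorem out_e (hML : ML.Final.MLK.{u, u}) {i : Fin 2} (hK : IsKGroup (CC v i)) (hF : ¬ Fail T V v i)
    (hJ : ∀ A : Subgroup G, Mx (o2 (centralizer (zc T : Set G))) A → A ≤ centralizer (V i : Set G)) :
    ∃ X B : Subgroup G, Out T V v i X B := by
  unfold Fail at hF
  push Not at hF
  obtain ⟨A, hA, -, hm⟩ := hF
  refine ⟨_, _, D.out_of hML hK hA ?_ hm⟩
  obtain ⟨-, h1, h2⟩ := D.mx hML hK hA
  have h3 : WW V v i ≤ centralizer ((A ⊓ centralizer (NN v i : Set G) ⊔ NN v i : Subgroup G) : Set G) := by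
    refine V_le fun c hc => ?_
    have e1 : MulAut.conj c⁻¹ • QQ v i = QQ v i := conj_eq_of_mem (le_normalizer_o2 _ (inv_mem hc))
    have h4 : MulAut.conj c⁻¹ • (A ⊓ centralizer (NN v i : Set G) ⊔ NN v i) ≤ QQ v i := by
      rw [← e1]; exact conj_le_iff.2 h2
    have h5 := comm_symm (hJ _ (h1.conj (h4.trans (D.Q_le_O i))))
    have h6 : MulAut.conj c • V i ≤ MulAut.conj c • centralizer
        ((MulAut.conj c⁻¹ • (A ⊓ centralizer (NN v i : Set G) ⊔ NN v i) : Subgroup G) : Set G) := conj_le_iff.2 h5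
    rwa [conj_cent, conj_conj, mul_inv_cancel, map_one, one_smul] at h6
  have h7 : A ⊓ centralizer (NN v i : Set G) ≤ A ⊓ centralizer (NN v i : Set G) ⊔ NN v i := le_sup_left
  refine comm_symm (sup_le (h3.trans (centralizer_le h7)) ?_)
  exact comm_symm inf_le_right

/-- (d) -/
theorem out_d (hML : ML.Final.MLK.{u, u}) {i : Fin 2} (hK : IsKGroup (CC v i)) (hF : ¬ Fail T V v i)
    (hV : V i ≤ NN v i) : ∃ X B : Subgroup G, Out T V v i X B := by
  unfold Fail at hF
  push Not at hF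
  obtain ⟨A, hA, -, hm⟩ := hF
  obtain ⟨h5, h6, -⟩ := D.ex_U hML hK hA
  exact ⟨NN v i, A ⊓ centralizer (UU V v i : Set G), le_rfl, hV, le_normalizer_NH v i _, D.N_le_Q i, D.N_sq i,
    fun b hb => hA.sq b hb.1, inf_le_left.trans hA.le, h5, inf_le_right, h6.ge, hm⟩

/-- **EX** (helper23 #22505 (II)) -/
theorem ex (hML : ML.Final.MLK.{u, u}) (hK : ∀ i, IsKGroup (CC v i)) :
    (∃ (i : Fin 2) (X B : Subgroup G), Out T V v i X B) ∨ ∀ i, ¬ Fail T V v i ∧ ¬ V i ≤ NN v i ∧
      ∃ A : Subgroup G, Mx (o2 (centralizer (zc T : Set G))) A ∧ ¬ A ≤ centralizer (V i : Set G) := by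
  by_contra hc
  push Not at hc
  obtain ⟨h1, i, h2⟩ := hc
  have key : ∀ j, ¬ Fail T V v j := by
    intro j hF
    by_cases hF' : Fail T V v (j + 1)
    · exact D.not_both hML hK hF hF'
    · obtain ⟨X, B, h⟩ := D.out_c hML hK hF hF'
      exact h1 _ X B h
  by_cases hV : V i ≤ NN v i
  · obtain ⟨X, B, h⟩ := D.out_d hML (hK i) (key i) hV
    exact h1 _ X B h
  · obtain ⟨X, B, h⟩ := D.out_e hML (hK i) (key i) (h2 (key i) hV)
    exact h1 _ X B h

end Fr

end Cfsg.Agent.Omega.KL.TwoS
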