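import Cfsg.Agent.Omega.KL.TwoS.Ex
import Cfsg.Agent.Omega.KL.Plug
import Cfsg.Agent.Omega.KL.Star.Main

/-!
# From `Out` to the input of THEOREM KL* (`Star.Main.Inp`, helper127 #22903; helper23 #22505)

* `Pre` : the input of THEOREM KL* for an `A` which is exact modulo the kernel; **`Pre.inp`** : `Pre → Inp`;
* **`Fr.pre`** : `Out T V v i X B` gives `Pre` for `C_i` acting on `X`; **`Fr.inp`**, **`Fr.exists_sysE`**.
-/

set_option autoImplicit false
set_option linter.unusedSectionVars false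

namespace Cfsg.Agent.Omega.KL.TwoS

open Subgroup Cfsg Cfsg.Agent.Omega.MinPar
open Cfsg.Agent.ZN (o2 zc)
open Cfsg.Agent.ClassTwoFusion.Quad Cfsg.Agent.Omega.ML.MinFrame
open Cfsg.Agent.Omega.OM.KTwo (CC QQ ne_add_one eq_add_one add_one_add_one le_normalizer_V le_V exists_mul_of_mem_sup)
open Cfsg.Agent.MinSimple.MinParabolic (IsMinPar)
open Cfsg.Agent.Omega.NoFF.Basic (conj_conj mem_conj conj_le_iff comm_symm comm_mono Z_le_V V_le)
open Cfsg.Agent.Omega.NOThreeL.Pair (conj_eq_of_mem conj_le_normalizer)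
open Cfsg.Agent.ZN.ChoiceSit (Syl exists_syl syl_conj o2_le_syl syl_not_dvd)
open Cfsg.Agent.MinSimple.VModule (mem_zc zc_le normalizer_le_normalizer_zc le_o2
  o2_isPGroup o2_le zc_le_centralizer le_centralizer_zc le_normalizer_o2)
open Cfsg.Agent.Omega.TC (NH mem_NH le_normalizer_NH NH_le kgroup_mono)
open Cfsg.Agent.Omega.TC.LemZ (card_eq le_norm_of norm_cent norm_inf)
open Cfsg.Agent.Omega.KL.Quo (norm_lift)
open Cfsg.Agent.Omega.KL.Star.Main (Inp)
open scoped Pointwise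

universe u v

/-- the input of THEOREM KL* (`Star.Main.Inp`) for `C` acting on `M`, with an `A` which is exact modulo the kernel -/
structure Pre {C : Type u} [Group C] {M : Type v} [Group M] [MulDistribMulAction C M] (T A : Subgroup C)
    (Y : Subgroup M) (x : M) : Prop where
  sq : ∀ m : M, m * m = 1
  two : IsPGroup 2 T
  syl : ¬ 2 ∣ T.index
  nx : ∀ g ∈ normalizer (T : Set C), g • x = x
  TY : ∀ t ∈ T, ∀ y ∈ Y, t • y ∈ Y
  odd : ∀ P : Subgroup C, IsMinPar T P → (∃ p ∈ P, p • x ≠ x) → ∀ g ∈ P, Odd (orderOf g) → ∀ y ∈ Y, g • y = y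
  el : ∀ a ∈ A, a * a = 1
  Ax : A ≤ o2 (MulAction.stabilizer C x)
  AY : A ≤ o2 (fxr C Y ⊔ T)
  mv : ¬ A ≤ fxr C (orb (⊤ : Subgroup C) x)
  ker : A ⊓ fxr C (orb (⊤ : Subgroup C) x) ≤ fxr C (⊤ : Subgroup M)
  le : (cv M (A : Set C)).index ≤ (fxr C (orb (⊤ : Subgroup C) x)).relIndex A
  KC : IsKGroup C

section pre

variable {C : Type u} [Group C] [Finite C] {M : Type v} [Group M] [Finite M] [MulDistribMulAction C M]
  {T A : Subgroup C} {Y : Subgroup M} {x : M}

/-- the elements of odd order lift -/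
theorem exists_odd {H : Type*} [Group H] (π : C →* H) {P : Subgroup C} {g : H} (hg : g ∈ P.map π)
    (ho : Odd (orderOf g)) : ∃ c ∈ P, Odd (orderOf c) ∧ π c = g := by
  obtain ⟨c, hc, rfl⟩ := hg
  obtain ⟨k, m, hm, hcm⟩ := Nat.exists_eq_two_pow_mul_odd (n := orderOf c) (orderOf_pos c).ne'
  -- `n ≡ 0 (mod 2^k)`, `n ≡ 1 (mod orderOf (π c))`
  have hcop : Nat.Coprime (2 ^ k) (orderOf (π c)) := Nat.Coprime.pow_left k (Nat.coprime_two_left.2 ho)
  obtain ⟨n, hn1, hn2⟩ := Nat.chineseRemainder hcop 0 1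
  refine ⟨c ^ n, pow_mem hc n, ?_, ?_⟩
  · have h1 : 2 ^ k ∣ n := (Nat.modEq_zero_iff_dvd).1 hn1
    obtain ⟨l, rfl⟩ := h1
    refine Odd.of_dvd_nat hm (orderOf_dvd_of_pow_eq_one ?_)
    rw [← pow_mul, mul_comm (2 ^ k) l, mul_assoc, ← hcm, mul_comm, pow_mul, pow_orderOf_eq_one, one_pow]
  · rw [map_pow]
    conv_rhs => rw [← pow_one (π c)]
    exact pow_eq_pow_iff_modEq.2 hn2

theorem Pre.inp (hML : ML.Final.MLK.{u, v}) (h : Pre T A Y x) :
    ∃ (H : Type u) (_ : Group H) (_ : Finite H) (_ : MulDistribMulAction H M) (T' A' : Subgroup H),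
      Inp T' A' Y x := by
  have htriv : ∀ k ∈ fxr C (⊤ : Subgroup M), ∀ m : M, k • m = m := fun k hk m => hk m (mem_top m)
  have hN : (fxr C (⊤ : Subgroup M)).Normal := fxr_normal fun _ _ _ => mem_top _
  set N := fxr C (⊤ : Subgroup M) with hNdef
  let _ : MulDistribMulAction (C ⧸ N) M := quoAct N htriv
  let π : C →* C ⧸ N := QuotientGroup.mk' N
  have hπ : Function.Surjective π := QuotientGroup.mk'_surjective N
  have he : ∀ (g : C) (v : M), π g • v = g • v := fun _ _ => rfl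
  have hker : ∀ k : C, (∀ v : M, k • v = v) → π k = 1 := fun k hk =>
    (QuotientGroup.eq_one_iff k).2 fun v _ => hk v
  have hker2 : ∀ k : C, π k = 1 → ∀ v : M, k • v = v := fun k hk v =>
    (QuotientGroup.eq_one_iff k).1 hk v (mem_top v)
  -- stabilisers
  have hst : ∀ z : M, (MulAction.stabilizer C z).map π = MulAction.stabilizer (C ⧸ N) z := by
    intro z
    ext g
    constructor
    · rintro ⟨c, hc, rfl⟩
      exact hc
    · intro hg
      obtain ⟨c, rfl⟩ := hπ g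
      exact ⟨c, hg, rfl⟩
  have ho2 : ∀ S : Subgroup C, A ≤ o2 S → A.map π ≤ o2 (S.map π) := by
    intro S hS
    refine (map_mono hS).trans (le_o2 (map_mono (o2_le _)) ((o2_isPGroup _).map π) ?_)
    exact (map_mono (le_normalizer_o2 _)).trans (le_normalizer_map π)
  have hx : A.map π ≤ o2 (MulAction.stabilizer (C ⧸ N) x) := by
    rw [← hst]
    exact ho2 _ h.Ax
  have hfxY : (fxr C Y ⊔ T).map π = fxr (C ⧸ N) Y ⊔ T.map π := by
    rw [Subgroup.map_sup]
    congr 1
    ext g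
    constructor
    · rintro ⟨c, hc, rfl⟩
      exact hc
    · intro hg
      obtain ⟨c, rfl⟩ := hπ g
      exact ⟨c, hg, rfl⟩
  have hy : A.map π ≤ o2 (fxr (C ⧸ N) Y ⊔ T.map π) := by
    rw [← hfxY]
    exact ho2 _ h.AY
  have horb : orb (⊤ : Subgroup (C ⧸ N)) x = orb (⊤ : Subgroup C) x := by
    apply le_antisymm
    · refine orb_le fun g _ => ?_
      obtain ⟨c, rfl⟩ := hπ g
      exact smul_mem_orb_self (g := c) (mem_top _)
    · exact orb_le fun g _ => smul_mem_orb_self (g := π g) (mem_top _)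
  have hfaith : ∀ g : C ⧸ N, (∀ m : M, g • m = m) → g = 1 := by
    intro g hg
    obtain ⟨c, rfl⟩ := hπ g
    exact hker c hg
  have hsyl : ¬ 2 ∣ (T.map π).index := fun h2 => h.syl (h2.trans (index_map_dvd T hπ))
  have hKH : IsKGroup (C ⧸ N) := ML.Final.sec_KG.quo C h.KC N
  have htx : ∀ t ∈ T, t • x = x := fun t ht => h.nx t (le_normalizer ht)
  have hel : ∀ a ∈ A.map π, a * a = 1 := by
    rintro _ ⟨a, ha, rfl⟩
    rw [← map_mul, h.el a ha, map_one]
  -- `A.map π` is faithful on the orbit of `x`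
  have hfx : ∀ B : Subgroup (C ⧸ N), B ≤ A.map π → B ⊓ fxr (C ⧸ N) (orb (⊤ : Subgroup (C ⧸ N)) x) = ⊥ := by
    intro B hB
    rw [Subgroup.eq_bot_iff_forall]
    rintro g ⟨hg, hg2⟩
    obtain ⟨a, ha, rfl⟩ := hB hg
    apply hker a
    have h1 : a ∈ fxr C (⊤ : Subgroup M) := h.ker ⟨ha, by rw [horb] at hg2; exact hg2⟩
    exact fun m => h1 m (mem_top m)
  -- (NO)
  have hno : ∀ B : Subgroup (C ⧸ N), B ≤ A.map π → Nat.card B ≤ (cv M (B : Set (C ⧸ N))).index := by
    intro B hB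
    have key := hML (C ⧸ N) M hKH h.sq (T.map π) (o2 (MulAction.stabilizer (C ⧸ N) x)) B x (mem_top _)
      (h.two.map π) le_top
      (by rwa [relIndex_top_right])
      (by
        rintro _ ⟨t, ht, rfl⟩
        rw [he, htx t ht])
      (o2_isPGroup _) le_top
      (fun q hq => o2_le _ hq)
      (fun g _ hgx q hq => (mem_normalizer_iff.1 (le_normalizer_o2 _
        (show g ∈ MulAction.stabilizer (C ⧸ N) x from hgx)) q).1 hq)
      (hB.trans hx)
      (fun b hb => hel b (hB hb))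
      False.elim
    have h1 : (fxr (C ⧸ N) (orb (⊤ : Subgroup (C ⧸ N)) x)).relIndex B = Nat.card B := by
      rw [← inf_relIndex_left, hfx B hB, relIndex_bot_left]
    rw [h1] at key
    refine key.trans ?_
    rw [← relIndex_top_right (cv M (B : Set (C ⧸ N)))]
    exact relIndex_mono le_top
  -- `A` is exact
  have hcv : cv M (A.map π : Set (C ⧸ N)) = cv M (A : Set C) := by
    ext v
    constructor
    · exact fun hv a ha => hv _ ⟨a, ha, rfl⟩
    · rintro hv _ ⟨a, ha, rfl⟩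
      exact hv a ha
  have hcard : Nat.card (A.map π) = N.relIndex A := by
    rw [← relIndex_bot_left, ← relIndex_comap, MonoidHom.comap_bot, QuotientGroup.ker_mk']
  have hNle : N ≤ fxr C (orb (⊤ : Subgroup C) x) := fun g hg m _ => hg m (mem_top m)
  have hrel : (fxr C (orb (⊤ : Subgroup C) x)).relIndex A ≤ N.relIndex A := relIndex_anti hNle
  have hex : (cv M (A.map π : Set (C ⧸ N))).index = Nat.card (A.map π) := by
    refine le_antisymm ?_ (hno _ le_rfl)
    rw [hcv, hcard]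
    exact h.le.trans hrel
  have hA1 : A.map π ≠ ⊥ := by
    intro h1
    apply h.mv
    intro a ha m _
    refine hker2 a ?_ m
    rw [← mem_bot, ← h1]
    exact ⟨a, ha, rfl⟩
  -- an atom
  obtain ⟨B, ⟨hBA, hB1, hBe⟩, hmin⟩ : ∃ B : Subgroup (C ⧸ N), (B ≤ A.map π ∧ B ≠ ⊥ ∧
      (cv M (B : Set (C ⧸ N))).index = Nat.card B) ∧ ∀ B' : Subgroup (C ⧸ N), (B' ≤ A.map π ∧ B' ≠ ⊥ ∧
      (cv M (B' : Set (C ⧸ N))).index = Nat.card B') → B' ≤ B → B' = B := by
    obtain ⟨B, hB⟩ := (Set.toFinite {B : Subgroup (C ⧸ N) | B ≤ A.map π ∧ B ≠ ⊥ ∧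
      (cv M (B : Set (C ⧸ N))).index = Nat.card B}).exists_minimal ⟨A.map π, le_rfl, hA1, hex⟩
    exact ⟨B, hB.prop, fun B' hB' hle => le_antisymm hle (hB.le_of_le hB' hle)⟩
  refine ⟨C ⧸ N, inferInstance, inferInstance, inferInstance, T.map π, B, ?_⟩
  refine ⟨h.sq, h.two.map π, hsyl, ?_, ?_, ?_, fun a ha => hel a (hBA ha), hBe, ?_, ?_, hBA.trans hx, hBA.trans hy, hKH⟩
  · intro g hg
    obtain ⟨t, ht, n, hn, rfl⟩ := norm_lift π hπ h.two h.syl hg
    rw [he, mul_smul, h.nx n hn, h.nx t (le_normalizer ht)]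
  · rintro _ ⟨t, ht, rfl⟩ y hy
    exact h.TY t ht y hy
  · intro P hP hmv g hg hog y hy
    obtain ⟨R, hR, rfl⟩ := Quo.exists_minPar π hπ hP
    obtain ⟨c, hc, hco, rfl⟩ := exists_odd π hg hog
    exact h.odd R hR (by
      obtain ⟨_, ⟨r, hr, rfl⟩, hrx⟩ := hmv
      exact ⟨r, hr, hrx⟩) c hc hco y hy
  · intro B' hB' hB1' hne
    refine lt_of_le_of_ne (hno B' (hB'.trans hBA)) fun h1 => hne ?_
    exact hmin B' ⟨hB'.trans hBA, hB1', h1.symm⟩ hB'
  · intro hle
    apply hB1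
    rw [← hfx B hBA]
    exact (inf_eq_left.2 hle).symm

end pre

/-! ### The action of `C_i` on `X` -/

/-- conjugation -/
abbrev actX {G : Type u} [Group G] {C X : Subgroup G} (h : C ≤ normalizer (X : Set G)) : MulDistribMulAction C X where
  smul c x := ⟨c * x * (c : G)⁻¹, (mem_normalizer_iff.1 (h c.2) x).1 x.2⟩
  one_smul x := Subtype.ext (by change ((1 : C) : G) * x * ((1 : C) : G)⁻¹ = x; simp)
  mul_smul a b x := Subtype.ext (by
    change ((a * b : C) : G) * x * ((a * b : C) : G)⁻¹ = a * (b * x * (b : G)⁻¹) * (a : G)⁻¹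
    push_cast; group)
  smul_mul c x y := Subtype.ext (by
    change (c : G) * ((x * y : X) : G) * (c : G)⁻¹ = (c * x * (c : G)⁻¹) * (c * y * (c : G)⁻¹)
    push_cast; group)
  smul_one c := Subtype.ext (by change (c : G) * ((1 : X) : G) * (c : G)⁻¹ = ((1 : X) : G); simp)

namespace Fr

variable {G : Type u} [Group G] [Finite G] {T : Subgroup G} {V : Fin 2 → Subgroup G} {v : Fin 2 → G}

theorem pre (D : Fr T V v) {i : Fin 2} {X B : Subgroup G} (hK : IsKGroup (CC v i)) (O : Out T V v i X B) :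
    letI := actX O.CX
    Pre (T.subgroupOf (CC v i)) (B.subgroupOf (CC v i)) ((V i).subgroupOf X) (⟨v (i + 1), O.NX (mem_NH v i _)⟩ : X) := by
  let := actX O.CX
  change Pre (T.subgroupOf (CC v i)) (B.subgroupOf (CC v i)) ((V i).subgroupOf X)
    (⟨v (i + 1), O.NX (mem_NH v i _)⟩ : X)
  have hBC : B ≤ CC v i := O.BO.trans (D.O_le_T.trans (D.T_le_C i))
  have hsm : ∀ (c : CC v i) (m : X), ((c • m : X) : G) = c * m * (c : G)⁻¹ := fun _ _ => rfl
  have hfix : ∀ (c : CC v i) (m : X), c • m = m ↔ (m : G) * c = c * m := by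
    intro c m
    rw [Subtype.ext_iff, hsm, mul_inv_eq_iff_eq_mul, eq_comm]
  have hst : ∀ c : CC v i, c ∈ MulAction.stabilizer (CC v i) (⟨v (i + 1), O.NX (mem_NH v i _)⟩ : X) ↔
      (c : G) ∈ centralizer (zc T : Set G) := by
    intro c
    rw [MulAction.mem_stabilizer_iff, hfix]
    constructor
    · exact fun h => D.mem_D c.2 (mem_centralizer_singleton_iff.2 h.symm)
    · exact fun h => (mem_centralizer_singleton_iff.1 (D.cent_zc_le (i + 1) h)).symm
  have hfxr : ∀ Y : Subgroup G, Y ≤ X → fxr (CC v i) (Y.subgroupOf X) = (centralizer (Y : Set G)).subgroupOf (CC v i) := by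
    intro Y hY
    ext c
    rw [mem_subgroupOf, mem_centralizer_iff]
    constructor
    · intro h y hy
      exact (hfix c ⟨y, hY hy⟩).1 (h _ (mem_subgroupOf.2 hy))
    · intro h y hy
      exact (hfix c y).2 (h _ (mem_subgroupOf.1 hy))
  have hfxt : fxr (CC v i) (⊤ : Subgroup X) = (centralizer (X : Set G)).subgroupOf (CC v i) := by
    rw [← hfxr X le_rfl, subgroupOf_self]
  have horb : orb (⊤ : Subgroup (CC v i)) (⟨v (i + 1), O.NX (mem_NH v i _)⟩ : X) = (NN v i).subgroupOf X := by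
    apply le_antisymm
    · refine orb_le fun g _ => mem_subgroupOf.2 ?_
      rw [hsm]
      exact (mem_normalizer_iff.1 (le_normalizer_NH v i (CC v i) g.2) _).1 (mem_NH v i _)
    · set U : Subgroup G := (orb (⊤ : Subgroup (CC v i)) (⟨v (i + 1), O.NX (mem_NH v i _)⟩ : X)).map X.subtype with hU
      have h1 : NN v i ≤ U := by
        refine NH_le ⟨_, mem_orb_self _ _, rfl⟩ (le_norm_of fun g hg a ha => ?_)
        obtain ⟨b, hb, rfl⟩ := ha
        exact ⟨_, smul_mem_orb (g := (⟨g, hg⟩ : CC v i)) (mem_top _) hb, rfl⟩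
      intro m hm
      obtain ⟨b, hb, hbm⟩ := h1 (mem_subgroupOf.1 hm)
      rw [← (Subtype.ext hbm : b = m)]
      exact hb
  refine ⟨?_, ?_, ?_, ?_, ?_, ?_, ?_, ?_, ?_, ?_, ?_, ?_, hK⟩
  · intro m
    apply Subtype.ext
    have h := O.sqX m m.2
    rw [pow_two] at h
    exact h
  · exact D.T_isPGroup.comap_of_injective (CC v i).subtype (CC v i).subtype_injective
  · exact syl_not_dvd (D.syl i)
  · intro g hg
    refine MulAction.mem_stabilizer_iff.1 ((hst g).2 (D.nT i (mem_inf.2 ⟨g.2, ?_⟩)))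
    rw [mem_normalizer_iff]
    intro t
    constructor
    · intro ht
      exact (mem_normalizer_iff.1 hg ⟨t, D.T_le_C i ht⟩).1 ht
    · intro ht
      have h1 : (g : G)⁻¹ * ((g : G) * t * (g : G)⁻¹) * (g : G)⁻¹⁻¹ ∈ T :=
        (mem_normalizer_iff.1 (inv_mem hg) ⟨(g : G) * t * (g : G)⁻¹, D.T_le_C i ht⟩).1 ht
      have e : (g : G)⁻¹ * ((g : G) * t * (g : G)⁻¹) * (g : G)⁻¹⁻¹ = t := by group
      rwa [e] at h1
  · intro t ht y hy
    refine mem_subgroupOf.2 ?_
    rw [hsm]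
    exact (mem_normalizer_iff.1 (D.nV i (mem_subgroupOf.1 ht)) _).1 (mem_subgroupOf.1 hy)
  · intro P hP hmv g hg hog y hy
    have hR := Plug.minPar_map (D.T_le_C i) hP
    have hRC : P.map (CC v i).subtype ≤ CC v i := map_subtype_le P
    have hRm : ¬ P.map (CC v i).subtype ≤ CC v (i + 1) := by
      intro h
      obtain ⟨p, hp, hpx⟩ := hmv
      apply hpx
      rw [hfix]
      exact (mem_centralizer_singleton_iff.1 (h (mem_map_of_mem (CC v i).subtype hp))).symm
    have h1 := D.odd (i + 1) i (ne_add_one i).symm _ hR hRC hRm g (mem_map_of_mem (CC v i).subtype hg)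
      (by rwa [orderOf_coe])
    rw [hfix]
    exact mem_centralizer_iff.1 h1 y (mem_subgroupOf.1 hy)
  · intro a ha
    apply Subtype.ext
    have h := O.sqB a (mem_subgroupOf.1 ha)
    rw [pow_two] at h
    exact h
  · exact Plug.sub_o2 hst O.BO
  · refine Plug.sub_o2 (S := HH T V i) (fun c => ?_) O.BH
    rw [hfxr (V i) O.VX, ← subgroupOf_sup (D.cent_V_le i) (D.T_le_C i), mem_subgroupOf]
  · rw [horb, hfxr _ O.NX]
    intro h
    apply O.mv
    intro b hb
    exact mem_subgroupOf.1 (h (mem_subgroupOf.2 hb : (⟨b, hBC hb⟩ : CC v i) ∈ B.subgroupOf (CC v i)))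
  · rw [horb, hfxr _ O.NX, hfxt]
    rintro c ⟨h1, h2⟩
    exact mem_subgroupOf.2 (O.ker ⟨mem_subgroupOf.1 h1, mem_subgroupOf.1 h2⟩)
  · rw [horb, hfxr _ O.NX, relIndex_subgroupOf hBC]
    refine le_trans (index_antitone ?_) O.ex
    intro m hm a ha
    rw [hfix]
    exact (mem_centralizer_iff.1 (mem_subgroupOf.1 hm) a (mem_subgroupOf.1 ha)).symm

/-- **the input of THEOREM KL*** -/
theorem inp (hML : ML.Final.MLK.{u, u}) (D : Fr T V v) {i : Fin 2} {X B : Subgroup G} (hK : IsKGroup (CC v i))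
    (O : Out T V v i X B) :
    ∃ (H M : Type u) (_ : Group H) (_ : Finite H) (_ : Group M) (_ : Finite M) (_ : MulDistribMulAction H M)
      (T' A' : Subgroup H) (Y : Subgroup M) (x : M), Inp T' A' Y x := by
  let := actX O.CX
  obtain ⟨H, _, _, _, T', A', h⟩ := (D.pre hK O).inp hML
  exact ⟨H, X, inferInstance, inferInstance, inferInstance, inferInstance, inferInstance, T', A', _, _, h⟩

open Cfsg.Agent.Omega.NO3S.EMany.Low in
/-- **EX + KL*** -/
theorem exists_sysE (hML : ML.Final.MLK.{u, u}) (D : Fr T V v) {i : Fin 2} {X B : Subgroup G} (hK : IsKGroup (CC v i))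
    (O : Out T V v i X B) :
    ∃ (H' : Type u) (_ : Group H') (_ : Finite H') (N : Type u) (_ : Group N) (_ : Finite N)
      (_ : MulDistribMulAction H' N) (T' A' : Subgroup H') (x' y' : N), SysE T' A' x' y' := by
  obtain ⟨H, M, _, _, _, _, _, T', A', Y, x, h⟩ := inp hML D hK O
  exact h.exists_sysE hML

end Fr

end Cfsg.Agent.Omega.KL.TwoS
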