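import Cfsg.Agent.Omega.TC.LemZ
import Cfsg.Agent.Omega.NoFF.ThmJFam
import Cfsg.Agent.Omega.KL.GenTool

/-!
# Two centres `v 0`, `v 1` with arbitrary `V 0`, `V 1` (box R, card R-SHAPES #20713 (4); helper23 #22505): the frame

`T` is a Sylow 2-subgroup of `C_i = C_G(v i)` (`i = 0, 1`), `Ω₁Z(T) = ⟨v 0, v 1⟩`, `D = C_G(Ω₁Z(T)) = C_0 ∩ C_1`,
`O = O₂(D)`, `⟨C_0, C_1⟩` nonlocal; `V i ∋ v i` elementary abelian, normalised by `T`, `V i ≤ O₂(C_i)`, the conjugates
of `V i` under `C_i` commute; every `T`-minimal `R ≤ C_j` (`j ≠ i`) which moves `v i` normalises `V 0` and `V 1`, is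
irreducible on `V i`, its elements of odd order centralise `V j`, and the set `v i ^ R` is the same for all of them.

* `Fr` : the frame; `NN v i = ⟨v (i+1) ^ C_i⟩`, `WW V v i = ⟨V i ^ C_i⟩`, `UU V v i = ⟨v (i+1) ^ C_G(V i)⟩`;
* `Fr.gen_of` : a normal subgroup `X` of `C_i` which moves `v (i+1)` : `C_i ≤ X D`;
* `Fr.no_H`, `Fr.no_N` : (NO);
* `Mx O A` : `A` elementary abelian of maximal order in `O`; `Mx.le_of_comm`, `Mx.thom`, `Mx.sup` : Thompson;
* `Fr.mx` : `A` maximal in `O` : exact on `N_i`, `C_A(N_i) N_i` maximal in `O`, contained in `Q_i`.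
-/

set_option autoImplicit false
set_option linter.unusedSectionVars false

namespace Cfsg.Agent.Omega.KL.TwoS

open Subgroup Cfsg Cfsg.Agent.Omega.MinPar
open Cfsg.Agent.ZN (o2 zc)
open Cfsg.Agent.Omega.OM.KTwo (CC QQ ne_add_one eq_add_one add_one_add_one le_normalizer_V le_V exists_mul_of_mem_sup)
open Cfsg.Agent.MinSimple.MinParabolic (IsMinPar)
open Cfsg.Agent.Omega.NoFF.Basic (conj_conj mem_conj conj_le_iff comm_symm comm_mono Z_le_V V_le)
open Cfsg.Agent.Omega.NOThreeL.Pair (conj_eq_of_mem conj_le_normalizer)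
open Cfsg.Agent.Omega.NoFF.ThmJFam (card_sup_inf card_conj)
open Cfsg.Agent.ZN.ChoiceSit (Syl exists_syl syl_conj o2_le_syl)
open Cfsg.Agent.MinSimple.VModule (mem_zc zc_le normalizer_le_normalizer_zc le_o2
  o2_isPGroup o2_le zc_le_centralizer le_centralizer_zc le_normalizer_o2)
open Cfsg.Agent.Omega.TC (NH mem_NH le_normalizer_NH NH_le kgroup_mono)
open Cfsg.Agent.Omega.TC.LemZ (card_eq le_norm_of norm_cent norm_inf)
open scoped Pointwise

universe u

variable {G : Type u} [Group G]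

/-- the frame of two centres (helper23 #22505) -/
structure Fr [Finite G] (T : Subgroup G) (V : Fin 2 → Subgroup G) (v : Fin 2 → G) : Prop where
  char2 : ∀ i, centralizer ({v i} : Set G) ⊓ centralizer (o2 (centralizer ({v i} : Set G)) : Set G) ≤
    o2 (centralizer ({v i} : Set G))
  sqV : ∀ i, ∀ x ∈ V i, x ^ 2 = 1
  mem : ∀ i, v i ∈ V i
  ne : ∀ i, v i ≠ 1
  zT : ∀ x, x ∈ zc T ↔ x = 1 ∨ x = v 0 ∨ x = v 1 ∨ x = v 0 * v 1
  syl : ∀ i, Syl T (centralizer ({v i} : Set G))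
  nT : ∀ i, centralizer ({v i} : Set G) ⊓ normalizer (T : Set G) ≤ centralizer (zc T : Set G)
  nV : ∀ i, T ≤ normalizer (V i : Set G)
  VQ : ∀ i, V i ≤ o2 (centralizer ({v i} : Set G))
  VC : ∀ i, ∀ c ∈ centralizer ({v i} : Set G), MulAut.conj c • V i ≤ centralizer (V i : Set G)
  uni : ∀ i j, i ≠ j → ∀ R : Subgroup G, IsMinPar T R → R ≤ centralizer ({v j} : Set G) →
    ¬ R ≤ centralizer ({v i} : Set G) → ∀ k, R ≤ normalizer (V k : Set G)
  odd : ∀ i j, i ≠ j → ∀ R : Subgroup G, IsMinPar T R → R ≤ centralizer ({v j} : Set G) →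
    ¬ R ≤ centralizer ({v i} : Set G) → ∀ g ∈ R, Odd (orderOf g) → g ∈ centralizer (V j : Set G)
  irr : ∀ i j, i ≠ j → ∀ R : Subgroup G, IsMinPar T R → R ≤ centralizer ({v j} : Set G) →
    ¬ R ≤ centralizer ({v i} : Set G) → ∀ W : Subgroup G, W ≤ V i → R ≤ normalizer (W : Set G) → W ≠ ⊥ → V i ≤ W
  same : ∀ i j, i ≠ j → ∀ R : Subgroup G, IsMinPar T R → R ≤ centralizer ({v j} : Set G) →
    ¬ R ≤ centralizer ({v i} : Set G) → ∀ R' : Subgroup G, IsMinPar T R' → R' ≤ centralizer ({v j} : Set G) →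
    ¬ R' ≤ centralizer ({v i} : Set G) → ∀ r' ∈ R', ∃ r ∈ R, r' * v i * r'⁻¹ = r * v i * r⁻¹
  nonloc : NonLoc (centralizer ({v 0} : Set G)) (centralizer ({v 1} : Set G))

/-- `N_i = ⟨v (i+1) ^ C_i⟩` -/
abbrev NN (v : Fin 2 → G) (i : Fin 2) : Subgroup G := NH v i (CC v i)

/-- `W_i = ⟨V i ^ C_i⟩` -/
abbrev WW (V : Fin 2 → Subgroup G) (v : Fin 2 → G) (i : Fin 2) : Subgroup G := NoFF.Basic.V (V i) (CC v i)

/-- `U_i = ⟨v (i+1) ^ C_G(V i)⟩` -/
abbrev UU (V : Fin 2 → Subgroup G) (v : Fin 2 → G) (i : Fin 2) : Subgroup G := NH v i (centralizer (V i : Set G))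

/-- `H_i = C_G(V i) T` -/
abbrev HH (T : Subgroup G) (V : Fin 2 → Subgroup G) (i : Fin 2) : Subgroup G := centralizer (V i : Set G) ⊔ T

/-! ### Elementary abelian groups of maximal order -/

theorem comm_of_sq {A : Subgroup G} (h : ∀ a ∈ A, a ^ 2 = 1) : A ≤ centralizer (A : Set G) := by
  intro a ha
  rw [mem_centralizer_iff]
  intro b hb
  have h1 := h _ (mul_mem ha hb)
  have h2 := h _ ha
  have h3 := h _ hb
  rw [pow_two] at h1 h2 h3
  have h4 : a⁻¹ = a := inv_eq_of_mul_eq_one_right h2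
  have h5 : b⁻¹ = b := inv_eq_of_mul_eq_one_right h3
  have h6 : (a * b)⁻¹ = a * b := inv_eq_of_mul_eq_one_right h1
  rw [mul_inv_rev, h4, h5] at h6
  exact h6

theorem sq_sup {A B : Subgroup G} (hA : ∀ a ∈ A, a ^ 2 = 1) (hB : ∀ a ∈ B, a ^ 2 = 1)
    (h : A ≤ centralizer (B : Set G)) : ∀ a ∈ A ⊔ B, a ^ 2 = 1 := by
  intro x hx
  obtain ⟨a, ha, b, hb, rfl⟩ := exists_mul_of_mem_sup ((comm_symm h).trans (centralizer_le_normalizer _)) hx
  have h1 : Commute a b := (mem_centralizer_iff.1 (h ha) b hb).symm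
  rw [h1.mul_pow, hA a ha, hB b hb, one_mul]

theorem relIndex_card [Finite G] {A C : Subgroup G} : Nat.card A = Nat.card (A ⊓ C : Subgroup G) * C.relIndex A :=
  card_eq A C

theorem pos [Finite G] (A : Subgroup G) : 0 < Nat.card A := Nat.card_pos

/-- `X ≤ N (X ∩ C)` ⇒ `|X : X ∩ C| ≤ |N : N ∩ C|` -/
theorem relIndex_le_of_sup [Finite G] {X N C : Subgroup G} (hN : N ≤ X) (hX : X ≤ centralizer (X : Set G))
    (h : X ≤ N ⊔ (X ⊓ C)) : C.relIndex X ≤ C.relIndex N := by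
  have e : X = N ⊔ (X ⊓ C) := le_antisymm h (sup_le hN inf_le_left)
  have h1 := card_sup_inf (A := N) (B := X ⊓ C) (comm_mono hX hN inf_le_left)
  rw [← e] at h1
  have h2 : N ⊓ (X ⊓ C) = N ⊓ C := by rw [← inf_assoc, inf_eq_left.2 hN]
  rw [h2, card_eq X C, card_eq N C] at h1
  have h3 : C.relIndex X = C.relIndex N := by
    have p1 := pos (N ⊓ C)
    have p2 := pos (X ⊓ C)
    have p3 : 0 < Nat.card (X ⊓ C : Subgroup G) * Nat.card (N ⊓ C : Subgroup G) := Nat.mul_pos p2 p1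
    apply Nat.eq_of_mul_eq_mul_left p3
    calc Nat.card (X ⊓ C : Subgroup G) * Nat.card (N ⊓ C : Subgroup G) * C.relIndex X
        = Nat.card (X ⊓ C : Subgroup G) * C.relIndex X * Nat.card (N ⊓ C : Subgroup G) := by ring
      _ = Nat.card (N ⊓ C : Subgroup G) * C.relIndex N * Nat.card (X ⊓ C : Subgroup G) := h1
      _ = Nat.card (X ⊓ C : Subgroup G) * Nat.card (N ⊓ C : Subgroup G) * C.relIndex N := by ring
  exact h3.le

/-- `|X : X ∩ C| ≤ |N : N ∩ C|` ⇒ `X ≤ N (X ∩ C)` -/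
theorem sup_of_relIndex_le [Finite G] {X N C : Subgroup G} (hN : N ≤ X) (hX : X ≤ centralizer (X : Set G))
    (h : C.relIndex X ≤ C.relIndex N) : X ≤ N ⊔ (X ⊓ C) := by
  have h1 := card_sup_inf (A := N) (B := X ⊓ C) (comm_mono hX hN inf_le_left)
  have h2 : N ⊓ (X ⊓ C) = N ⊓ C := by rw [← inf_assoc, inf_eq_left.2 hN]
  rw [h2, card_eq N C] at h1
  have hle : N ⊔ (X ⊓ C) ≤ X := sup_le hN inf_le_left
  refine (Subgroup.eq_of_le_of_card_ge hle ?_).ge
  have p1 := pos (N ⊓ C)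
  apply Nat.le_of_mul_le_mul_right (c := Nat.card (N ⊓ C : Subgroup G)) _ p1
  calc Nat.card X * Nat.card (N ⊓ C : Subgroup G)
      = Nat.card (X ⊓ C : Subgroup G) * C.relIndex X * Nat.card (N ⊓ C : Subgroup G) := by rw [← card_eq X C]
    _ ≤ Nat.card (X ⊓ C : Subgroup G) * C.relIndex N * Nat.card (N ⊓ C : Subgroup G) :=
        Nat.mul_le_mul_right _ (Nat.mul_le_mul_left _ h)
    _ = Nat.card (N ⊓ C : Subgroup G) * C.relIndex N * Nat.card (X ⊓ C : Subgroup G) := by ring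
    _ = Nat.card (N ⊔ X ⊓ C : Subgroup G) * Nat.card (N ⊓ C : Subgroup G) := h1.symm

/-- `A` is elementary abelian of maximal order in `O` -/
structure Mx (O A : Subgroup G) : Prop where
  le : A ≤ O
  sq : ∀ a ∈ A, a ^ 2 = 1
  max : ∀ B : Subgroup G, B ≤ O → (∀ b ∈ B, b ^ 2 = 1) → Nat.card B ≤ Nat.card A

namespace Mx

variable [Finite G] {O A N : Subgroup G}

theorem exists_mx (O : Subgroup G) : ∃ A : Subgroup G, Mx O A := by
  obtain ⟨A, hA, hm⟩ := Set.exists_max_image {A : Subgroup G | A ≤ O ∧ ∀ a ∈ A, a ^ 2 = 1}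
    (fun A => Nat.card A) (Set.toFinite _) ⟨⊥, bot_le, fun a ha => by rw [mem_bot.1 ha, one_pow]⟩
  exact ⟨A, hA.1, hA.2, fun B hB hB2 => hm B ⟨hB, hB2⟩⟩

theorem comm (hA : Mx O A) : A ≤ centralizer (A : Set G) := comm_of_sq hA.sq

theorem of_card (hA : Mx O A) {B : Subgroup G} (hB : B ≤ O) (hB2 : ∀ b ∈ B, b ^ 2 = 1)
    (h : Nat.card A ≤ Nat.card B) : Mx O B := ⟨hB, hB2, fun C hC hC2 => (hA.max C hC hC2).trans h⟩

theorem conj (hA : Mx O A) {g : G} (h : MulAut.conj g • A ≤ O) : Mx O (MulAut.conj g • A) := by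
  refine hA.of_card h (fun b hb => ?_) (card_conj g A).ge
  rw [mem_conj] at hb
  have h1 := hA.sq _ hb
  have e : b = g * (g⁻¹ * b * g) * g⁻¹ := by group
  rw [e, conj_pow, h1, mul_one, mul_inv_cancel]

theorem le_of_comm (hA : Mx O A) {B : Subgroup G} (hB : B ≤ O) (hB2 : ∀ b ∈ B, b ^ 2 = 1)
    (h : B ≤ centralizer (A : Set G)) : B ≤ A := by
  have h1 := hA.max (A ⊔ B) (sup_le hA.le hB) (sq_sup hA.sq hB2 (comm_symm h))
  have h2 := Subgroup.eq_of_le_of_card_ge (le_sup_left : A ≤ A ⊔ B) h1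
  rw [h2]
  exact le_sup_right

theorem sup_le_O (hA : Mx O A) (hN : N ≤ O) (hN2 : ∀ x ∈ N, x ^ 2 = 1) :
    A ⊓ centralizer (N : Set G) ⊔ N ≤ O ∧ ∀ x ∈ A ⊓ centralizer (N : Set G) ⊔ N, x ^ 2 = 1 :=
  ⟨sup_le (inf_le_left.trans hA.le) hN, sq_sup (fun a ha => hA.sq a ha.1) hN2 inf_le_right⟩

/-- **Thompson** -/
theorem thom (hA : Mx O A) (hN : N ≤ O) (hN2 : ∀ x ∈ N, x ^ 2 = 1) :
    (centralizer (A : Set G)).relIndex N ≤ (centralizer (N : Set G)).relIndex A := by
  obtain ⟨h1, h2⟩ := hA.sup_le_O hN hN2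
  have h3 := hA.max _ h1 h2
  have h4 := card_sup_inf (A := A ⊓ centralizer (N : Set G)) (B := N) inf_le_right
  have h5 : Nat.card (A ⊓ centralizer (N : Set G) ⊓ N : Subgroup G) ≤
      Nat.card (N ⊓ centralizer (A : Set G) : Subgroup G) :=
    Subgroup.card_le_of_le (le_inf inf_le_right ((inf_le_left.trans inf_le_left).trans hA.comm))
  have p1 := pos (A ⊓ centralizer (N : Set G))
  have p2 := pos (N ⊓ centralizer (A : Set G))
  have p3 := Nat.mul_pos p1 p2
  apply Nat.le_of_mul_le_mul_left _ p3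
  calc Nat.card (A ⊓ centralizer (N : Set G) : Subgroup G) * Nat.card (N ⊓ centralizer (A : Set G) : Subgroup G) *
        (centralizer (A : Set G)).relIndex N
      = Nat.card (A ⊓ centralizer (N : Set G) : Subgroup G) * Nat.card N := by
        rw [card_eq N (centralizer (A : Set G))]; ring
    _ = _ := h4.symm
    _ ≤ Nat.card A * Nat.card (N ⊓ centralizer (A : Set G) : Subgroup G) := Nat.mul_le_mul h3 h5
    _ = _ := by rw [card_eq A (centralizer (N : Set G))]; ring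

/-- **Thompson**, equality -/
theorem sup (hA : Mx O A) (hN : N ≤ O) (hN2 : ∀ x ∈ N, x ^ 2 = 1)
    (he : (centralizer (N : Set G)).relIndex A ≤ (centralizer (A : Set G)).relIndex N) :
    Mx O (A ⊓ centralizer (N : Set G) ⊔ N) := by
  obtain ⟨h1, h2⟩ := hA.sup_le_O hN hN2
  refine hA.of_card h1 h2 ?_
  have h4 := card_sup_inf (A := A ⊓ centralizer (N : Set G)) (B := N) inf_le_right
  have h5 : Nat.card (A ⊓ centralizer (N : Set G) ⊓ N : Subgroup G) ≤
      Nat.card (N ⊓ centralizer (A : Set G) : Subgroup G) :=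
    Subgroup.card_le_of_le (le_inf inf_le_right ((inf_le_left.trans inf_le_left).trans hA.comm))
  have p2 := pos (A ⊓ centralizer (N : Set G) ⊓ N)
  apply Nat.le_of_mul_le_mul_right _ p2
  calc Nat.card A * Nat.card (A ⊓ centralizer (N : Set G) ⊓ N : Subgroup G)
      ≤ Nat.card A * Nat.card (N ⊓ centralizer (A : Set G) : Subgroup G) := Nat.mul_le_mul_left _ h5
    _ = Nat.card (A ⊓ centralizer (N : Set G) : Subgroup G) * (Nat.card (N ⊓ centralizer (A : Set G) : Subgroup G) *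
        (centralizer (N : Set G)).relIndex A) := by rw [card_eq A (centralizer (N : Set G))]; ring
    _ ≤ Nat.card (A ⊓ centralizer (N : Set G) : Subgroup G) * (Nat.card (N ⊓ centralizer (A : Set G) : Subgroup G) *
        (centralizer (A : Set G)).relIndex N) := Nat.mul_le_mul_left _ (Nat.mul_le_mul_left _ he)
    _ = Nat.card (A ⊓ centralizer (N : Set G) : Subgroup G) * Nat.card N := by
        rw [← card_eq N (centralizer (A : Set G))]
    _ = _ := h4.symm

end Mx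

namespace Fr

variable [Finite G] {T : Subgroup G} {V : Fin 2 → Subgroup G} {v : Fin 2 → G} (D : Fr T V v)

include D

/-! ### Easy facts -/

theorem T_isPGroup : IsPGroup 2 T := (D.syl 0).2.1

theorem T_le_C (i : Fin 2) : T ≤ CC v i := (D.syl i).1

theorem v_sq' (i : Fin 2) : v i ^ 2 = 1 := D.sqV i _ (D.mem i)

theorem v_sq (i : Fin 2) : v i * v i = 1 := by rw [← pow_two]; exact D.v_sq' i

theorem v_mem_zc (i : Fin 2) : v i ∈ zc T := by
  rw [D.zT]
  rcases Fin.exists_fin_two.1 ⟨i, rfl⟩ with h | h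
  · exact Or.inr (Or.inl (by rw [h]))
  · exact Or.inr (Or.inr (Or.inl (by rw [h])))

theorem Q_le_T (i : Fin 2) : QQ v i ≤ T := o2_le_syl (D.syl i)

theorem v_mem_T (i : Fin 2) : v i ∈ T := zc_le _ (D.v_mem_zc i)

theorem comm_v (i : Fin 2) {t : G} (ht : t ∈ T) : t * v i = v i * t :=
  mem_centralizer_singleton_iff.1 (D.T_le_C i ht)

theorem cen (i : Fin 2) {t : G} (ht : t ∈ T) : t * v i * t⁻¹ = v i := by
  rw [D.comm_v i ht]; group

theorem v_mem_Q (i j : Fin 2) : v j ∈ QQ v i := by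
  apply D.char2 i
  refine ⟨D.T_le_C i (D.v_mem_T j), mem_centralizer_iff.2 fun q hq => ?_⟩
  exact D.comm_v j (D.Q_le_T i hq)

theorem cent_zc_le (i : Fin 2) : centralizer (zc T : Set G) ≤ CC v i :=
  centralizer_le (Set.singleton_subset_iff.2 (D.v_mem_zc i))

theorem CC_inf : CC v 0 ⊓ CC v 1 ≤ centralizer (zc T : Set G) := by
  rintro c ⟨h0', h1'⟩
  have h0 : c * v 0 = v 0 * c := mem_centralizer_singleton_iff.1 h0'
  have h1 : c * v 1 = v 1 * c := mem_centralizer_singleton_iff.1 h1'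
  rw [mem_centralizer_iff]
  intro x hx
  rcases (D.zT x).1 hx with h | h | h | h
  · rw [h]; simp
  · rw [h]; exact h0.symm
  · rw [h]; exact h1.symm
  · rw [h]
    calc v 0 * v 1 * c = v 0 * (c * v 1) := by rw [mul_assoc, h1]
      _ = (v 0 * c) * v 1 := by group
      _ = c * (v 0 * v 1) := by rw [← h0]; group

theorem mem_D {i : Fin 2} {c : G} (h : c ∈ CC v i) (h' : c ∈ CC v (i + 1)) : c ∈ centralizer (zc T : Set G) := by
  apply D.CC_inf
  rcases Fin.exists_fin_two.1 ⟨i, rfl⟩ with e | e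
  · subst e; exact ⟨h, h'⟩
  · subst e; exact ⟨h', h⟩

theorem T_le_D : T ≤ centralizer (zc T : Set G) := le_centralizer_zc T

theorem syl_D : Syl T (centralizer (zc T : Set G)) :=
  ⟨D.T_le_D, D.T_isPGroup, fun R hR hR2 hTR => (D.syl 0).2.2 R (hR.trans (D.cent_zc_le 0)) hR2 hTR⟩

theorem O_le_T : o2 (centralizer (zc T : Set G)) ≤ T := o2_le_syl D.syl_D

theorem Q_le_O (i : Fin 2) : QQ v i ≤ o2 (centralizer (zc T : Set G)) :=
  le_o2 ((D.Q_le_T i).trans D.T_le_D) (o2_isPGroup _) ((D.cent_zc_le i).trans (le_normalizer_o2 _))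

theorem nonloc' {i : Fin 2} {W : Subgroup G} (hW : IsPGroup 2 W) (h : CC v i ≤ normalizer (W : Set G))
    (h' : CC v (i + 1) ≤ normalizer (W : Set G)) : W = ⊥ := by
  rcases Fin.exists_fin_two.1 ⟨i, rfl⟩ with e | e
  · subst e; exact D.nonloc W hW h h'
  · subst e; exact D.nonloc W hW h' h

/-! ### `N_i` -/

theorem v_cent_Q (i j : Fin 2) : v j ∈ centralizer (QQ v i : Set G) :=
  mem_centralizer_iff.2 fun _ hq => D.comm_v j (D.Q_le_T i hq)

theorem N_le (i : Fin 2) {X : Subgroup G} (hX : CC v i ≤ normalizer (X : Set G)) (h : v (i + 1) ∈ X) : NN v i ≤ X :=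
  NH_le h hX

theorem N_le_Q (i : Fin 2) : NN v i ≤ QQ v i := NH_le (D.v_mem_Q i (i + 1)) (le_normalizer_o2 _)

theorem N_le_cent_Q (i : Fin 2) : NN v i ≤ centralizer (QQ v i : Set G) :=
  NH_le (D.v_cent_Q i (i + 1)) (norm_cent (le_normalizer_o2 _))

theorem Q_le_cent_N (i : Fin 2) : QQ v i ≤ centralizer (NN v i : Set G) := comm_symm (D.N_le_cent_Q i)

theorem N_comm (i : Fin 2) : NN v i ≤ centralizer (NN v i : Set G) := (D.N_le_Q i).trans (D.Q_le_cent_N i)

theorem N_le_O (i : Fin 2) : NN v i ≤ o2 (centralizer (zc T : Set G)) := (D.N_le_Q i).trans (D.Q_le_O i)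

theorem N_le_C (i j : Fin 2) : NN v i ≤ CC v j := ((D.N_le_Q i).trans (D.Q_le_T i)).trans (D.T_le_C j)

theorem sq_conj {c : G} {A : Subgroup G} (hA : ∀ a ∈ A, a ^ 2 = 1) : ∀ a ∈ MulAut.conj c • A, a ^ 2 = 1 := by
  intro b hb
  rw [mem_conj] at hb
  have h1 := hA _ hb
  have e : b = c * (c⁻¹ * b * c) * c⁻¹ := by group
  rw [e, conj_pow, h1, mul_one, mul_inv_cancel]

/-- a subgroup generated by conjugates which commute is elementary abelian -/
theorem sq_V {A P : Subgroup G} (hA : ∀ a ∈ A, a ^ 2 = 1)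
    (h : NoFF.Basic.V A P ≤ centralizer (NoFF.Basic.V A P : Set G)) : ∀ a ∈ NoFF.Basic.V A P, a ^ 2 = 1 := by
  let K : Subgroup G :=
    { carrier := {x | x ∈ NoFF.Basic.V A P ∧ x ^ 2 = 1}
      one_mem' := ⟨one_mem _, one_pow _⟩
      mul_mem' := by
        rintro x y ⟨hx, hx'⟩ ⟨hy, hy'⟩
        refine ⟨mul_mem hx hy, ?_⟩
        have h1 : Commute x y := mem_centralizer_iff.1 (h hy) x hx
        rw [h1.mul_pow, hx', hy', one_mul]
      inv_mem' := by
        rintro x ⟨hx, hx'⟩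
        exact ⟨inv_mem hx, by rw [inv_pow, hx', inv_one]⟩ }
  have h1 : NoFF.Basic.V A P ≤ K := V_le fun p hp x hx => ⟨Z_le_V hp hx, sq_conj D hA x hx⟩
  exact fun a ha => (h1 ha).2

theorem N_sq (i : Fin 2) : ∀ x ∈ NN v i, x ^ 2 = 1 := by
  refine sq_V D (fun a ha => ?_) (D.N_comm i)
  obtain ⟨n, rfl⟩ := mem_zpowers_iff.1 ha
  have h : Commute (v (i + 1)) (v (i + 1)) := Commute.refl _
  rw [← zpow_natCast, ← zpow_mul, mul_comm, zpow_mul]
  have h2 : v (i + 1) ^ ((2 : ℕ) : ℤ) = 1 := by rw [zpow_natCast]; exact D.v_sq' (i + 1)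
  rw [h2, one_zpow]

/-- a normal subgroup of `C_i` which centralises `v (i+1)` centralises `N_i` -/
theorem cent_N_of_le {i : Fin 2} {X : Subgroup G} (hn : CC v i ≤ normalizer (X : Set G)) (hX : X ≤ CC v (i + 1)) :
    X ≤ centralizer (NN v i : Set G) := by
  refine comm_symm (NH_le ?_ (norm_cent hn))
  rw [mem_centralizer_iff]
  exact fun x hx => mem_centralizer_singleton_iff.1 (hX hx)

theorem cent_N_le (i : Fin 2) : centralizer (NN v i : Set G) ≤ CC v (i + 1) :=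
  centralizer_le (Set.singleton_subset_iff.2 (mem_NH v i _))

/-- `C_O(N_i) = Q_i` -/
theorem O_inf_le (i : Fin 2) : o2 (centralizer (zc T : Set G)) ⊓ centralizer (NN v i : Set G) ≤ QQ v i := by
  have h1 := GenTool.o2_inf_le (L := CC v i) (N := CC v i ⊓ centralizer (NN v i : Set G))
    (R := centralizer (zc T : Set G)) inf_le_left
    (fun g hg x hx => ⟨(CC v i).mul_mem ((CC v i).mul_mem hg hx.1) ((CC v i).inv_mem hg),
      (mem_normalizer_iff.1 (norm_cent (le_normalizer_NH v i (CC v i)) hg) x).1 hx.2⟩)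
    (fun x hx => D.mem_D hx.1 (D.cent_N_le i hx.2))
  refine le_trans ?_ h1
  exact le_inf inf_le_left (le_inf ((inf_le_left.trans D.O_le_T).trans (D.T_le_C i)) inf_le_right)

/-! ### Generation -/

theorem gen_of {i : Fin 2} {X : Subgroup G} (hX : X ≤ CC v i) (hm : ¬ X ≤ CC v (i + 1)) : CC v i ≤ X ⊔ centralizer (zc T : Set G) := by
  have hji := (ne_add_one i).symm
  have h1 : ∃ R : Subgroup G, IsMinPar T R ∧ R ≤ X ⊔ T ∧ ¬ R ≤ CC v (i + 1) := by
    by_contra hc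
    push Not at hc
    apply hm
    refine le_trans le_sup_left (MinSimple.MinParabolic.le_of_forall (S := T) (X := X ⊔ T) le_sup_right ?_ hc)
    exact ((inf_le_inf_right _ (sup_le hX (D.T_le_C i))).trans (D.nT i)).trans (D.cent_zc_le _)
  obtain ⟨R, hR, hRX, hRm⟩ := h1
  have hRC : R ≤ CC v i := hRX.trans (sup_le hX (D.T_le_C i))
  refine MinSimple.MinParabolic.le_of_forall (D.T_le_C i) ((D.nT i).trans le_sup_right) fun R' hR' hR'C => ?_
  by_cases hR'm : R' ≤ CC v (i + 1)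
  · exact fun r hr => mem_sup_right (D.mem_D (hR'C hr) (hR'm hr))
  · intro r' hr'
    obtain ⟨r, hr, he⟩ := D.same (i + 1) i hji R hR hRC hRm R' hR' hR'C hR'm r' hr'
    have h2 : r⁻¹ * r' ∈ centralizer (zc T : Set G) := by
      apply D.mem_D (i := i) (mul_mem (inv_mem (hRC hr)) (hR'C hr'))
      rw [mem_centralizer_singleton_iff]
      calc r⁻¹ * r' * v (i + 1) = r⁻¹ * (r' * v (i + 1) * r'⁻¹) * r' := by group
        _ = v (i + 1) * (r⁻¹ * r') := by rw [he]; group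
    have e : r' = r * (r⁻¹ * r') := by group
    rw [e]
    refine mul_mem ?_ (mem_sup_right h2)
    exact (hRX.trans (sup_le le_sup_left (D.T_le_D.trans le_sup_right))) hr

theorem exists_move (i : Fin 2) : ∃ R : Subgroup G, IsMinPar T R ∧ R ≤ CC v i ∧ ¬ R ≤ CC v (i + 1) := by
  by_contra hc
  push Not at hc
  have h1 : CC v i ≤ CC v (i + 1) :=
    MinSimple.MinParabolic.le_of_forall (D.T_le_C i) ((D.nT i).trans (D.cent_zc_le _)) hc
  have h2 := D.nonloc' (i := i) (W := QQ v (i + 1)) (o2_isPGroup _) (h1.trans (le_normalizer_o2 _))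
    (le_normalizer_o2 _)
  have h3 := D.v_mem_Q (i + 1) i
  rw [h2, mem_bot] at h3
  exact D.ne i h3

/-- `V (i+1) ≤ N_i` -/
theorem V_le_N (i : Fin 2) : V (i + 1) ≤ NN v i := by
  obtain ⟨R, hR, hRC, hRm⟩ := D.exists_move i
  have hji := (ne_add_one i).symm
  have h1 : NH v i R ≤ V (i + 1) := NH_le (D.mem _) (D.uni (i + 1) i hji R hR hRC hRm (i + 1))
  refine (D.irr (i + 1) i hji R hR hRC hRm (NH v i R) h1 (le_normalizer_NH v i R) ?_).trans ?_
  · intro h
    have h2 := mem_NH v i R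
    rw [h, mem_bot] at h2
    exact D.ne _ h2
  · exact NH_le (mem_NH v i _) (hRC.trans (le_normalizer_NH v i _))

/-! ### `W_i`, `U_i` -/

theorem cent_V_le (i : Fin 2) : centralizer (V i : Set G) ≤ CC v i :=
  centralizer_le (Set.singleton_subset_iff.2 (D.mem i))

theorem U_le_N (i : Fin 2) : UU V v i ≤ NN v i :=
  NH_le (mem_NH v i _) ((D.cent_V_le i).trans (le_normalizer_NH v i _))

theorem U_sq (i : Fin 2) : ∀ x ∈ UU V v i, x ^ 2 = 1 := fun x hx => D.N_sq i x (D.U_le_N i hx)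

theorem norm_U (i : Fin 2) : normalizer (V i : Set G) ⊓ CC v (i + 1) ≤ normalizer (UU V v i : Set G) := by
  have key : ∀ g ∈ normalizer (V i : Set G) ⊓ CC v (i + 1), MulAut.conj g • UU V v i ≤ UU V v i := by
    rintro g ⟨hg, hgv⟩
    rw [Subgroup.pointwise_smul_subset_iff]
    refine V_le fun k hk => ?_
    rw [← Subgroup.pointwise_smul_subset_iff, conj_conj]
    have hgk : g * k * g⁻¹ ∈ centralizer (V i : Set G) :=
      (mem_normalizer_iff.1 (norm_cent (A := normalizer (V i : Set G)) le_rfl hg) k).1 hk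
    have hgz : MulAut.conj g • zpowers (v (i + 1)) = zpowers (v (i + 1)) := by
      apply conj_eq_of_mem
      apply centralizer_le_normalizer
      rw [mem_centralizer_iff]
      rintro _ ⟨n, rfl⟩
      have h1 : Commute g (v (i + 1)) := mem_centralizer_singleton_iff.1 hgv
      exact (h1.zpow_right n).eq.symm
    have e : g * k = (g * k * g⁻¹) * g := by group
    rw [e, ← conj_conj, hgz]
    exact Z_le_V hgk
  refine le_norm_of fun g hg x hx => ?_
  apply key g hg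
  rw [mem_conj]
  have e : g⁻¹ * (g * x * g⁻¹) * g = x := by group
  rwa [e]

theorem H_le_C (i : Fin 2) : HH T V i ≤ CC v i := sup_le (D.cent_V_le i) (D.T_le_C i)

theorem T_le_H (i : Fin 2) : T ≤ HH T V i := le_sup_right

theorem H_le_norm_U (i : Fin 2) : HH T V i ≤ normalizer (UU V v i : Set G) :=
  sup_le (le_normalizer_NH v i _) ((le_inf (D.nV i) (D.T_le_C _)).trans (D.norm_U i))

theorem NH_H (i : Fin 2) : NH v i (HH T V i) = UU V v i := by
  apply le_antisymm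
  · exact NH_le (mem_NH v i _) (D.H_le_norm_U i)
  · exact NH_le (mem_NH v i _) (le_sup_left.trans (le_normalizer_NH v i _))

theorem W_le_Q (i : Fin 2) : WW V v i ≤ QQ v i := V_le fun c hc => by
  have e : MulAut.conj c • QQ v i = QQ v i := conj_eq_of_mem (le_normalizer_o2 (CC v i) hc)
  rw [← e]
  exact conj_le_iff.2 (D.VQ i)

theorem W_comm (i : Fin 2) : WW V v i ≤ centralizer (WW V v i : Set G) := by
  refine V_le fun c hc => comm_symm (V_le fun d hd => ?_)
  have h1 := D.VC i (c⁻¹ * d) (mul_mem (inv_mem hc) hd)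
  have h2 : MulAut.conj c • (MulAut.conj (c⁻¹ * d) • V i) ≤ MulAut.conj c • centralizer (V i : Set G) :=
    conj_le_iff.2 h1
  rw [conj_conj, mul_inv_cancel_left, NoFF.ThmJFam.conj_cent] at h2
  exact h2

theorem W_sq (i : Fin 2) : ∀ x ∈ WW V v i, x ^ 2 = 1 := sq_V D (D.sqV i) (D.W_comm i)

end Fr

end Cfsg.Agent.Omega.KL.TwoS
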