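import Cfsg.Agent.Omega.KL.TwoS.Inp
import Mathlib.GroupTheory.SpecificGroups.Alternating

/-!
# A block `S_n`, `n ≥ 5` odd: `J(O)` centralises it (helper23 #22505 (e))

`V = {φ s : s ⊆ Ω even}`, `R` acts on `V` as `Sym(Ω)`, `v = φ (Ω - ∞)`.

* `Lett V R φ` : this situation; `Rel φ g σ` : `g` acts on `V` as `σ`;
* `Lett.semi` : `O` a 2-group normalised by `C_R(v)`, `O ≤ C_R(v)`: an element of `O` which fixes a letter `≠ ∞`
  centralises `V`;
* **`Lett.cent`** : then an offender `A ≤ O` on `V` centralises `V`;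
* **`Fr.cent_of`**, **`Fr.sysE_of`** : for the frame of two centres: if one `V i` is of this kind, then the second
  alternative of `Fr.ex` is impossible.
-/

set_option autoImplicit false
set_option linter.unusedSectionVars false

namespace Cfsg.Agent.Omega.KL.TwoS

open Subgroup Cfsg Cfsg.Agent.Omega.MinPar
open Cfsg.Agent.ZN (o2 zc)
open Cfsg.Agent.Omega.OM.KTwo (CC QQ ne_add_one eq_add_one add_one_add_one le_normalizer_V le_V exists_mul_of_mem_sup)
open Cfsg.Agent.MinSimple.MinParabolic (IsMinPar)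
open Cfsg.Agent.Omega.NoFF.Basic (conj_conj mem_conj conj_le_iff comm_symm comm_mono Z_le_V V_le)
open Cfsg.Agent.MinSimple.VModule (le_o2 o2_isPGroup o2_le le_normalizer_o2)
open scoped Pointwise

universe u w

variable {G : Type u} [Group G] {Ω : Type w} [Fintype Ω] [DecidableEq Ω]

/-- `g` acts on the even sets as `σ` -/
def Rel (φ : Finset Ω → G) (g : G) (σ : Equiv.Perm Ω) : Prop :=
  ∀ s : Finset Ω, Even s.card → g * φ s * g⁻¹ = φ (s.map σ.toEmbedding)

/-- `V` is the group of the even subsets of `Ω`, `R` acts on it as `Sym(Ω)` -/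
structure Lett (V R : Subgroup G) (φ : Finset Ω → G) : Prop where
  odd : Odd (Fintype.card Ω)
  mul : ∀ s t : Finset Ω, φ (symmDiff s t) = φ s * φ t
  inj : ∀ s : Finset Ω, Even s.card → φ s = 1 → s = ∅
  mem : ∀ x : G, x ∈ V ↔ ∃ s : Finset Ω, Even s.card ∧ φ s = x
  act : ∀ g ∈ R, ∃ σ : Equiv.Perm Ω, Rel φ g σ
  all : ∀ σ : Equiv.Perm Ω, ∃ g ∈ R, Rel φ g σ

theorem even_symmDiff {s t : Finset Ω} (hs : Even s.card) (ht : Even t.card) : Even (symmDiff s t).card := by
  have h1 : (symmDiff s t).card + 2 * (s ∩ t).card = s.card + t.card := by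
    have e : symmDiff s t = (s \ t) ∪ (t \ s) := rfl
    have hd : Disjoint (s \ t) (t \ s) := by
      rw [Finset.disjoint_left]
      intro x hx hx'
      exact (Finset.mem_sdiff.1 hx).2 (Finset.mem_sdiff.1 hx').1
    rw [e, Finset.card_union_of_disjoint hd]
    have h2 := Finset.card_sdiff_add_card_inter s t
    have h3 := Finset.card_sdiff_add_card_inter t s
    rw [Finset.inter_comm t s] at h3
    omega
  have h2 : Even ((symmDiff s t).card + 2 * (s ∩ t).card) := by rw [h1]; exact hs.add ht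
  rw [Nat.even_add] at h2
  exact h2.2 (even_two_mul _)

namespace Rel

variable {φ : Finset Ω → G} {g h : G} {σ τ : Equiv.Perm Ω}

theorem mul (hg : Rel φ g σ) (hh : Rel φ h τ) : Rel φ (g * h) (σ * τ) := by
  intro s hs
  have h1 := hh s hs
  have h2 := hg (s.map τ.toEmbedding) (by rwa [Finset.card_map])
  have e : g * h * φ s * (g * h)⁻¹ = g * (h * φ s * h⁻¹) * g⁻¹ := by group
  rw [e, h1, h2, Finset.map_map]
  rfl

theorem inv (hg : Rel φ g σ) : Rel φ g⁻¹ σ⁻¹ := by
  intro s hs
  have h2 := hg (s.map (σ⁻¹).toEmbedding) (by rwa [Finset.card_map])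
  rw [Finset.map_map] at h2
  have e : (σ⁻¹).toEmbedding.trans σ.toEmbedding = Function.Embedding.refl Ω := by
    ext x
    simp
  rw [e, Finset.map_refl] at h2
  rw [← h2]
  group

theorem one : Rel φ 1 (1 : Equiv.Perm Ω) := by
  intro s _
  have e : (1 : Equiv.Perm Ω).toEmbedding = Function.Embedding.refl Ω := by
    ext x
    simp
  rw [e, Finset.map_refl]
  group

theorem pow (hg : Rel φ g σ) (n : ℕ) : Rel φ (g ^ n) (σ ^ n) := by
  induction n with
  | zero => rw [pow_zero, pow_zero]; exact one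
  | succ n ih => rw [pow_succ, pow_succ]; exact ih.mul hg

end Rel

namespace Lett

variable {V R : Subgroup G} {φ : Finset Ω → G} (L : Lett V R φ)

include L

theorem phi_empty : φ ∅ = 1 := by
  have h := L.mul ∅ ∅
  rw [symmDiff_self, Finset.bot_eq_empty] at h
  exact mul_eq_left.1 h.symm

theorem phi_sq (s : Finset Ω) : φ s * φ s = 1 := by
  rw [← L.mul, symmDiff_self, Finset.bot_eq_empty, L.phi_empty]

theorem phi_inj {s t : Finset Ω} (hs : Even s.card) (ht : Even t.card) (h : φ s = φ t) : s = t := by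
  have h1 : φ (symmDiff s t) = 1 := by rw [L.mul, ← h, L.phi_sq]
  have h2 := L.inj _ (even_symmDiff hs ht) h1
  rwa [← Finset.bot_eq_empty, symmDiff_eq_bot] at h2

theorem phi_inv (s : Finset Ω) : (φ s)⁻¹ = φ s := inv_eq_of_mul_eq_one_right (L.phi_sq s)

theorem pair {g : G} {σ : Equiv.Perm Ω} (h : Rel φ g σ) {a b : Ω} (hab : a ≠ b) :
    g * φ {a, b} * g⁻¹ = φ {σ a, σ b} := by
  rw [h _ (by rw [Finset.card_pair hab]; exact even_two)]
  congr 1
  ext x
  simp

theorem unique (h3 : 3 ≤ Fintype.card Ω) {g : G} {σ τ : Equiv.Perm Ω} (h : Rel φ g σ) (h' : Rel φ g τ) : σ = τ := by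
  ext a
  obtain ⟨b, hb⟩ : ∃ b, b ≠ a := Fintype.exists_ne_of_one_lt_card (by omega) a
  obtain ⟨c, hc⟩ : ∃ c, c ∉ ({a, b} : Finset Ω) := by
    by_contra hcon
    push Not at hcon
    have h1 : (Finset.univ : Finset Ω) ⊆ {a, b} := fun x _ => hcon x
    have h2 := Finset.card_le_card h1
    rw [Finset.card_univ] at h2
    have h4 : ({a, b} : Finset Ω).card ≤ 2 := Finset.card_le_two
    omega
  rw [Finset.mem_insert, Finset.mem_singleton, not_or] at hc
  have e1 : ({σ a, σ b} : Finset Ω) = {τ a, τ b} := by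
    refine L.phi_inj ?_ ?_ (by rw [← L.pair h hb.symm, ← L.pair h' hb.symm])
    · rw [Finset.card_pair (σ.injective.ne hb.symm)]; exact even_two
    · rw [Finset.card_pair (τ.injective.ne hb.symm)]; exact even_two
  have e2 : ({σ a, σ c} : Finset Ω) = {τ a, τ c} := by
    refine L.phi_inj ?_ ?_ (by rw [← L.pair h (Ne.symm hc.1), ← L.pair h' (Ne.symm hc.1)])
    · rw [Finset.card_pair (σ.injective.ne (Ne.symm hc.1))]; exact even_two
    · rw [Finset.card_pair (τ.injective.ne (Ne.symm hc.1))]; exact even_two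
  have m1 : σ a ∈ ({τ a, τ b} : Finset Ω) := by rw [← e1]; simp
  have m2 : σ a ∈ ({τ a, τ c} : Finset Ω) := by rw [← e2]; simp
  rw [Finset.mem_insert, Finset.mem_singleton] at m1 m2
  rcases m1 with m1 | m1
  · exact m1
  · rcases m2 with m2 | m2
    · exact m2
    · exact absurd (τ.injective (m1.symm.trans m2)) (Ne.symm hc.2)

theorem cent_of_one {g : G} (h : Rel φ g 1) : g ∈ centralizer (V : Set G) := by
  rw [mem_centralizer_iff]
  intro x hx
  obtain ⟨s, hs, rfl⟩ := (L.mem x).1 hx
  have h1 := h s hs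
  have e : (1 : Equiv.Perm Ω).toEmbedding = Function.Embedding.refl Ω := by
    ext x
    simp
  rw [e, Finset.map_refl, mul_inv_eq_iff_eq_mul] at h1
  exact h1.symm

theorem even_erase (p : Ω) : Even (Finset.univ.erase p).card := by
  rw [Finset.card_erase_of_mem (Finset.mem_univ p), Finset.card_univ]
  exact Nat.Odd.sub_odd L.odd odd_one

theorem fix_iff {g : G} {σ : Equiv.Perm Ω} (h : Rel φ g σ) (p : Ω) :
    g * φ (Finset.univ.erase p) * g⁻¹ = φ (Finset.univ.erase p) ↔ σ p = p := by
  have e : (Finset.univ.erase p).map σ.toEmbedding = Finset.univ.erase (σ p) := by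
    rw [Finset.map_erase, Finset.map_univ_equiv]
    rfl
  rw [h _ (L.even_erase p), e]
  constructor
  · intro h1
    have h2 := L.phi_inj (L.even_erase _) (L.even_erase _) h1
    by_contra hne
    have h3 : σ p ∈ Finset.univ.erase p := Finset.mem_erase.2 ⟨hne, Finset.mem_univ _⟩
    rw [← h2] at h3
    exact (Finset.mem_erase.1 h3).1 rfl
  · intro h1
    rw [h1]

variable {O : Subgroup G} {p : Ω}

/-- an element of `O` which fixes a letter `≠ p` centralises `V` -/
theorem semi (h3 : 3 ≤ Fintype.card Ω) (hO2 : IsPGroup 2 O)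
    (hOv : O ≤ centralizer ({φ (Finset.univ.erase p)} : Set G))
    (hn : ∀ g ∈ R, g ∈ centralizer ({φ (Finset.univ.erase p)} : Set G) → g ∈ normalizer (O : Set G))
    {g : G} (hg : g ∈ O) {σ : Equiv.Perm Ω} (hσ : Rel φ g σ) {c : Ω} (hc : c ≠ p) (hσc : σ c = c) : σ = 1 := by
  by_contra hne
  obtain ⟨b, hb⟩ : ∃ b, σ b ≠ b := by
    by_contra hcon
    push Not at hcon
    exact hne (Equiv.ext fun x => by rw [hcon x]; rfl)
  have hσp : σ p = p := by
    rw [← L.fix_iff hσ]
    rw [mem_centralizer_singleton_iff.1 (hOv hg), mul_inv_cancel_right]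
  have hbp : b ≠ p := fun h => hb (by rw [h, hσp])
  have hbc : b ≠ c := fun h => hb (by rw [h, hσc])
  have hσbc : σ b ≠ c := fun h => hbc (σ.injective (h.trans hσc.symm))
  obtain ⟨k, hkR, hk⟩ := L.all (Equiv.swap b c)
  have hkp : Equiv.swap b c p = p := Equiv.swap_apply_of_ne_of_ne (Ne.symm hbp) (Ne.symm hc)
  have hkv : k ∈ centralizer ({φ (Finset.univ.erase p)} : Set G) := by
    rw [mem_centralizer_singleton_iff]
    have h1 := (L.fix_iff hk p).2 hkp
    rwa [mul_inv_eq_iff_eq_mul] at h1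
  have hkn := hn k hkR hkv
  have hm : k * g * k⁻¹ * g⁻¹ ∈ O := mul_mem ((mem_normalizer_iff.1 hkn g).1 hg) (inv_mem hg)
  have hrel : Rel φ (k * g * k⁻¹ * g⁻¹) (Equiv.swap b c * σ * (Equiv.swap b c)⁻¹ * σ⁻¹) :=
    ((hk.mul hσ).mul hk.inv).mul hσ.inv
  have e : Equiv.swap b c * σ * (Equiv.swap b c)⁻¹ * σ⁻¹ = Equiv.swap c b * Equiv.swap c (σ b) := by
    have h1 : σ * (Equiv.swap b c)⁻¹ * σ⁻¹ = Equiv.swap (σ b) (σ c) := by
      rw [Equiv.swap_inv]
      exact (Equiv.swap_apply_apply σ b c).symm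
    calc Equiv.swap b c * σ * (Equiv.swap b c)⁻¹ * σ⁻¹ = Equiv.swap b c * (σ * (Equiv.swap b c)⁻¹ * σ⁻¹) := by group
      _ = Equiv.swap c b * Equiv.swap c (σ b) := by rw [h1, hσc, Equiv.swap_comm b c, Equiv.swap_comm (σ b) c]
  rw [e] at hrel
  obtain ⟨n, hn2⟩ := hO2 ⟨_, hm⟩
  have h4 : (k * g * k⁻¹ * g⁻¹) ^ 2 ^ n = 1 := by
    have := congrArg Subtype.val hn2
    simpa using this
  have h5 := hrel.pow (2 ^ n)
  rw [h4] at h5
  have h6 := L.unique h3 h5 Rel.one
  have h7 : (Equiv.swap c b * Equiv.swap c (σ b)).IsThreeCycle :=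
    Equiv.Perm.isThreeCycle_swap_mul_swap_same (Ne.symm hbc) (Ne.symm hσbc) (Ne.symm hb)
  have h8 := orderOf_dvd_of_pow_eq_one h6
  rw [h7.orderOf] at h8
  have h9 := Nat.Prime.dvd_of_dvd_pow Nat.prime_three h8
  omega

/-- **an offender `A ≤ O` centralises `V`** -/
theorem cent [Finite G] (h4 : 4 ≤ Fintype.card Ω) (hO2 : IsPGroup 2 O) (hOR : O ≤ R)
    (hOv : O ≤ centralizer ({φ (Finset.univ.erase p)} : Set G))
    (hn : ∀ g ∈ R, g ∈ centralizer ({φ (Finset.univ.erase p)} : Set G) → g ∈ normalizer (O : Set G))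
    {A : Subgroup G} (hA : A ≤ O)
    (hle : (centralizer (A : Set G)).relIndex V ≤ (centralizer (V : Set G)).relIndex A) :
    A ≤ centralizer (V : Set G) := by
  classical
  have : Fintype A := Fintype.ofFinite A
  by_contra hmv
  have hσ : ∀ a : A, ∃ σ : Equiv.Perm Ω, Rel φ a σ := fun a => L.act a (hOR (hA a.2))
  choose f hf using hσ
  have hsemi : ∀ (a : A) (c : Ω), c ≠ p → f a c = c → f a = 1 := fun a c hc h =>
    L.semi (by omega) hO2 hOv hn (hA a.2) (hf a) hc h
  have hfp : ∀ a : A, f a p = p := by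
    intro a
    rw [← L.fix_iff (hf a), mem_centralizer_singleton_iff.1 (hOv (hA a.2)), mul_inv_cancel_right]
  have hfmul : ∀ a b : A, f (a * b) = f a * f b := fun a b =>
    L.unique (by omega) (hf (a * b)) ((hf a).mul (hf b))
  have hfinv : ∀ a : A, f a⁻¹ = (f a)⁻¹ := fun a => L.unique (by omega) (hf a⁻¹) (hf a).inv
  obtain ⟨a0, ha0, hma0⟩ := SetLike.not_le_iff_exists.1 hmv
  have hmove : ∀ c : Ω, c ≠ p → f ⟨a0, ha0⟩ c ≠ c := by
    intro c hc h
    apply hma0
    have h1 := hsemi ⟨a0, ha0⟩ c hc h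
    have h2 := hf ⟨a0, ha0⟩
    rw [h1] at h2
    exact L.cent_of_one h2
  obtain ⟨b, hb⟩ : ∃ b, b ≠ p := Fintype.exists_ne_of_one_lt_card (by omega) p
  -- the orbit of `b`
  set orb : Finset Ω := Finset.univ.image fun a : A => f a b with horb
  have hborb : b ∈ orb := by
    refine Finset.mem_image.2 ⟨1, Finset.mem_univ _, ?_⟩
    have h1 : f 1 = 1 := L.unique (by omega) (hf 1) Rel.one
    rw [h1]
    rfl
  have horbp : ∀ c ∈ orb, c ≠ p := by
    intro c hc
    obtain ⟨a, -, rfl⟩ := Finset.mem_image.1 hc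
    intro h
    apply hb
    apply (f a).injective
    rw [h, hfp]
  -- `|A : C_A(V)| ≤ |orb|`
  have hupper : (centralizer (V : Set G)).relIndex A ≤ orb.card := by
    have hinj : Function.Injective fun q : A ⧸ (centralizer (V : Set G)).subgroupOf A =>
        (⟨f q.out b, Finset.mem_image.2 ⟨q.out, Finset.mem_univ _, rfl⟩⟩ : orb) := by
      intro q q' h
      have h1 : f q.out b = f q'.out b := congrArg Subtype.val h
      have h2 : f (q.out⁻¹ * q'.out) = 1 := by
        refine hsemi _ b hb ?_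
        rw [hfmul, hfinv]
        change (f q.out)⁻¹ (f q'.out b) = b
        rw [← h1]
        simp
      have h3 : q.out⁻¹ * q'.out ∈ (centralizer (V : Set G)).subgroupOf A := by
        rw [mem_subgroupOf]
        have h4 := hf (q.out⁻¹ * q'.out)
        rw [h2] at h4
        exact L.cent_of_one h4
      rw [← QuotientGroup.out_eq' q, ← QuotientGroup.out_eq' q']
      exact QuotientGroup.eq.2 h3
    have h1 := Nat.card_le_card_of_injective _ hinj
    rw [Nat.card_eq_fintype_card (α := orb), Fintype.card_coe] at h1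
    exact h1
  -- a set `S` of letters with `|V : C_V(A)| ≥ |S| + 1`
  have hlower : ∀ S : Finset Ω, (∀ c ∈ S, c ≠ p) →
      (∀ c ∈ S, ∀ d ∈ S, c ≠ d → ∃ a : A, ({f a c, f a d} : Finset Ω) ≠ {c, d}) →
      S.card + 1 ≤ (centralizer (A : Set G)).relIndex V := by
    intro S hS hS2
    have hev : ∀ c d : Ω, c ≠ d → Even ({c, d} : Finset Ω).card := fun c d h => by
      rw [Finset.card_pair h]; exact even_two
    have hVm : ∀ c : S, φ {(c : Ω), p} ∈ V := fun c => (L.mem _).2 ⟨_, hev _ _ (hS c c.2), rfl⟩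
    let F : Option S → V ⧸ (centralizer (A : Set G)).subgroupOf V := fun o =>
      o.elim ((1 : V) : V ⧸ (centralizer (A : Set G)).subgroupOf V)
        fun c => ((⟨φ {(c : Ω), p}, hVm c⟩ : V) : V ⧸ (centralizer (A : Set G)).subgroupOf V)
    have hmem : ∀ {c d : Ω}, c ≠ d → φ {c, d} ∈ centralizer (A : Set G) → ∀ a : A,
        ({f a c, f a d} : Finset Ω) = {c, d} := by
      intro c d hcd h a
      have h1 := mem_centralizer_iff.1 h a a.2
      have h2 := L.pair (hf a) hcd
      rw [h1, mul_inv_cancel_right] at h2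
      exact (L.phi_inj (hev _ _ hcd) (hev _ _ ((f a).injective.ne hcd)) h2).symm
    have hnp : ∀ c : S, φ {(c : Ω), p} ∉ centralizer (A : Set G) := by
      intro c hc
      have h1 := hmem (hS c c.2) hc ⟨a0, ha0⟩
      rw [hfp] at h1
      have h2 : f ⟨a0, ha0⟩ c ∈ ({(c : Ω), p} : Finset Ω) := by rw [← h1]; simp
      rw [Finset.mem_insert, Finset.mem_singleton] at h2
      rcases h2 with h2 | h2
      · exact hmove c (hS c c.2) h2
      · exact hS c c.2 ((f ⟨a0, ha0⟩).injective (h2.trans (hfp _).symm))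
    have hF : Function.Injective F := by
      rintro (_ | c) (_ | d) h
      · rfl
      · exfalso
        have h1 := QuotientGroup.eq.1 h
        rw [inv_one, one_mul, mem_subgroupOf] at h1
        exact hnp d h1
      · exfalso
        have h1 := QuotientGroup.eq.1 h
        rw [mul_one, mem_subgroupOf] at h1
        exact hnp c (by simpa using inv_mem h1)
      · congr 1
        by_contra hcd
        have hcd' : (c : Ω) ≠ d := fun h => hcd (Subtype.ext h)
        have h1 := QuotientGroup.eq.1 h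
        rw [mem_subgroupOf] at h1
        have h2 : φ {(c : Ω), (d : Ω)} ∈ centralizer (A : Set G) := by
          have e : φ {(c : Ω), (d : Ω)} = (φ {(c : Ω), p})⁻¹ * φ {(d : Ω), p} := by
            rw [L.phi_inv, ← L.mul]
            congr 1
            ext x
            have hc := hS c c.2
            have hd := hS d d.2
            rw [Finset.mem_symmDiff]
            simp only [Finset.mem_insert, Finset.mem_singleton]
            constructor
            · rintro (rfl | rfl)
              · left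
                exact ⟨Or.inl rfl, fun h => h.elim hcd' hc⟩
              · right
                exact ⟨Or.inl rfl, fun h => h.elim (fun h => hcd' h.symm) hd⟩
            · rintro (⟨h | h, h'⟩ | ⟨h | h, h'⟩)
              · exact Or.inl h
              · exact absurd (Or.inr h) h'
              · exact Or.inr h
              · exact absurd (Or.inr h) h'
          rw [e]
          exact h1
        obtain ⟨a, ha⟩ := hS2 c c.2 d d.2 hcd'
        exact ha (hmem hcd' h2 a)
    have h1 := Nat.card_le_card_of_injective F hF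
    rw [Nat.card_eq_fintype_card (α := Option S), Fintype.card_option, Fintype.card_coe] at h1
    exact h1
  by_cases hc3 : 3 ≤ orb.card
  · -- `S = orb`
    have h1 := hlower orb horbp ?_
    · omega
    · intro c hc d hd hcd
      by_contra hcon
      push Not at hcon
      have h2 : orb ⊆ {c, d} := by
        intro e he
        obtain ⟨a, -, rfl⟩ := Finset.mem_image.1 hc
        obtain ⟨a', -, rfl⟩ := Finset.mem_image.1 he
        have h3 := hcon (a' * a⁻¹)
        have h4 : f a' b = f (a' * a⁻¹) (f a b) := by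
          rw [hfmul, hfinv]
          simp
        rw [← h3]
        change f a' b ∈ _
        rw [h4]
        exact Finset.mem_insert_self _ _
      have h3 := Finset.card_le_card h2
      have h5 : ({c, d} : Finset Ω).card ≤ 2 := Finset.card_le_two
      omega
  · -- `orb = {b, b'}`
    obtain ⟨c, hc⟩ : ∃ c, c ∉ insert p orb := by
      by_contra hcon
      push Not at hcon
      have h1 : (Finset.univ : Finset Ω) ⊆ insert p orb := fun x _ => hcon x
      have h2 := Finset.card_le_card h1
      rw [Finset.card_univ] at h2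
      have h5 := Finset.card_insert_le p orb
      omega
    rw [Finset.mem_insert, not_or] at hc
    have hbc : b ≠ c := fun h => hc.2 (h ▸ hborb)
    have h1 := hlower {b, c} ?_ ?_
    · rw [Finset.card_pair hbc] at h1
      omega
    · intro x hx
      rw [Finset.mem_insert, Finset.mem_singleton] at hx
      rcases hx with rfl | rfl
      · exact hb
      · exact hc.1
    · have key : ({f ⟨a0, ha0⟩ b, f ⟨a0, ha0⟩ c} : Finset Ω) ≠ {b, c} := by
        intro h
        have h2 : f ⟨a0, ha0⟩ b ∈ ({b, c} : Finset Ω) := by rw [← h]; simp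
        rw [Finset.mem_insert, Finset.mem_singleton] at h2
        rcases h2 with h2 | h2
        · exact hmove b hb h2
        · exact hc.2 (h2 ▸ Finset.mem_image.2 ⟨_, Finset.mem_univ _, rfl⟩)
      intro x hx y hy hxy
      refine ⟨⟨a0, ha0⟩, ?_⟩
      rw [Finset.mem_insert, Finset.mem_singleton] at hx hy
      rcases hx with rfl | rfl <;> rcases hy with rfl | rfl
      · exact absurd rfl hxy
      · exact key
      · rw [Finset.pair_comm, Finset.pair_comm x y]
        exact key
      · exact absurd rfl hxy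

end Lett

namespace Fr

variable [Finite G] {T : Subgroup G} {V : Fin 2 → Subgroup G} {v : Fin 2 → G} (D : Fr T V v)

include D

/-- `V i` a block `S_n`, `n ≥ 4`: the elementary abelian subgroups of maximal order of `O` centralise `V i` -/
theorem cent_of {i : Fin 2} {R : Subgroup G} {φ : Finset Ω → G} (L : Lett (V i) R φ) (h4 : 4 ≤ Fintype.card Ω)
    (hT : T ≤ R) (hRC : R ≤ CC v (i + 1)) {p : Ω} (hp : v i = φ (Finset.univ.erase p)) {A : Subgroup G}
    (hA : Mx (o2 (centralizer (zc T : Set G))) A) : A ≤ centralizer (V i : Set G) := by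
  have hVO : V i ≤ o2 (centralizer (zc T : Set G)) := (D.VQ i).trans (D.Q_le_O i)
  refine L.cent (O := o2 (centralizer (zc T : Set G))) (p := p) h4 (o2_isPGroup _) (D.O_le_T.trans hT) ?_ ?_ hA.le
    (hA.thom hVO (D.sqV i))
  · rw [← hp]
    exact (o2_le _).trans (D.cent_zc_le i)
  · intro g hg hgv
    rw [← hp] at hgv
    exact le_normalizer_o2 _ (D.mem_D hgv (hRC hg))

/-- one block is `S_n`: the first alternative of `Fr.ex` -/
theorem out_of_lett (hML : ML.Final.MLK.{u, u}) (hK : ∀ i, IsKGroup (CC v i)) {i : Fin 2} {R : Subgroup G}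
    {φ : Finset Ω → G} (L : Lett (V i) R φ) (h4 : 4 ≤ Fintype.card Ω) (hT : T ≤ R) (hRC : R ≤ CC v (i + 1)) {p : Ω}
    (hp : v i = φ (Finset.univ.erase p)) : ∃ (j : Fin 2) (X B : Subgroup G), Out T V v j X B := by
  rcases D.ex hML hK with h | h
  · exact h
  · obtain ⟨-, -, A, hA, hm⟩ := h i
    exact absurd (D.cent_of L h4 hT hRC hp hA) hm

open Cfsg.Agent.Omega.NO3S.EMany.Low in
/-- **two blocks, one of them `S_n`, `n ≥ 5`** -/
theorem sysE_of_lett (hML : ML.Final.MLK.{u, u}) (hK : ∀ i, IsKGroup (CC v i)) {i : Fin 2} {R : Subgroup G}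
    {φ : Finset Ω → G} (L : Lett (V i) R φ) (h4 : 4 ≤ Fintype.card Ω) (hT : T ≤ R) (hRC : R ≤ CC v (i + 1)) {p : Ω}
    (hp : v i = φ (Finset.univ.erase p)) :
    ∃ (H' : Type u) (_ : Group H') (_ : Finite H') (N : Type u) (_ : Group N) (_ : Finite N)
      (_ : MulDistribMulAction H' N) (T' A' : Subgroup H') (x' y' : N), SysE T' A' x' y' := by
  obtain ⟨j, X, B, O⟩ := D.out_of_lett hML hK L h4 hT hRC hp
  exact D.exists_sysE hML (hK j) O

end Fr

end Cfsg.Agent.Omega.KL.TwoS
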